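import Groth.Agent.Agf.H623.SurjBorel
import Groth.Agent.Sga3B.Parab.SolvPts172
import Groth.Agent.Sga3B.RG.BorConj838
import Groth.Agent.Sga3B.RG.CertRed
import Groth.Agent.Sga3B.RG.PbGen
import Groth.Agent.Sga3B.RG.NonComm
import Groth.Agent.Agf.H609.MaxTorImg

/-!
# The image of a reductive group is reductive, on points

`isRedPt_of_surjective`: `φ : C → A` a homomorphism of commutative Hopf algebras of finite type over
an algebraically closed field, `A` a domain, `C` reduced, surjective on points; if the group of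
points of `A` is reductive then so is the one of `C`.
-/

set_option autoImplicit false

universe u

open WithConv TensorProduct Coalgebra
open scoped LaurentPolynomial

namespace K215.RedImg

open Groth.Agent.Sga3B.RG Groth.Agent.Sga3B.Parab.BorelPts172

variable {K : Type u} [Field K] [IsAlgClosed K] {A C : Type u} [CommRing A] [HopfAlgebra K A]
  [CommRing C] [HopfAlgebra K C]

/-- Closed subgroups normalised by `λ` are stable under limits. -/
lemma limPt_mem_of_normal {H : Subgroup (Pt K A)} {lam : A →ₐc[K] K[T;T⁻¹]}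
    (hH : IsCl (H : Set (Pt K A))) (hn : H.Normal) {g : Pt K A} (hg : g ∈ Psub lam) (hgH : g ∈ H) :
    limPt lam g hg ∈ H := by
  apply hH
  intro a ha
  obtain ⟨p, hp, hp0⟩ := exists_poly_limPt lam hg a
  have h1 : p = 0 := by
    have hinf : Set.Infinite ({0}ᶜ : Set K) := (Set.finite_singleton 0).infinite_compl
    apply Polynomial.eq_of_infinite_eval_eq
    refine hinf.mono ?_
    intro x hx
    lift x to Kˣ using (IsUnit.mk0 x hx) with t
    change p.eval (t : K) = (0 : Polynomial K).eval (t : K)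
    rw [← hp t, Polynomial.eval_zero]
    exact ha _ (hn.conj_mem _ hgH _)
  rw [← hp0, h1, Polynomial.eval_zero]

variable [Algebra.FiniteType K A] [Algebra.FiniteType K C]

/-- A normal closed connected unipotent subgroup lies in every Borel subgroup. -/
lemma le_of_isBorelPt [IsReduced C] {N : Subgroup (Pt K C)} (hN : N.Normal)
    (hcl : IsCl (N : Set (Pt K C))) (hconn : IsConn (N : Set (Pt K C)))
    (hunip : ∀ g ∈ N, IsUnip g) {B : Subgroup (Pt K C)} (hB : IsBorelPt B) : N ≤ B := by
  obtain ⟨g, hg⟩ := hB.exists_conj_le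
    ⟨hcl, hconn, Groth.Agent.Sga3B.Parab.SolvPts172.isSolvable_of_isUnip hunip⟩
  intro x hx
  refine hg ⟨g⁻¹ * x * g, ?_, ?_⟩
  · have := hN.conj_mem x hx g⁻¹
    rwa [inv_inv] at this
  · change g * (g⁻¹ * x * g) * g⁻¹ = x
    group

/-- **The image of a reductive group is reductive** (points). -/
theorem isRedPt_of_surjective [IsDomain A] [IsReduced C] (φ : C →ₐc[K] A)
    (hφ : Function.Surjective (Pt.map φ)) (hred : IsRedPt K A) : IsRedPt K C := by
  have hK : Infinite K := IsAlgClosed.instInfinite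
  intro N hN hcl hconn hunip
  -- a maximal torus and a generic cocharacter
  have hex : ∃ (T : Subgroup (Pt K A)) (lam : A →ₐc[K] K[T;T⁻¹]), IsMaxTorusSub T ∧ CochIn lam T ∧
      Zsub lam = T := by
    obtain ⟨T, hT⟩ : ∃ T : Subgroup (Pt K A), IsMaxTorusSub T := by
      obtain ⟨B, hB⟩ := exists_isBorelPt K A
      obtain ⟨T, hT, -⟩ := hB.exists_isMaxTorusSub_le
      exact ⟨T, hT⟩
    obtain ⟨n, p, hp, hp'⟩ := hT.1
    subst hp'
    obtain ⟨l, hl, -⟩ := PbGen.exists_perturb p 0
    exact ⟨_, PbPsi.co p l, hT, PbPsi.co_mem p l, by rw [← hl, K8.centralizer_eq hred hT]⟩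
  obtain ⟨T, lam, hT, hlam, hgen⟩ := hex
  -- the inverse cocharacter
  have hlam' : CochIn (invCoch lam) T := by
    intro t
    rw [cochPt_invCoch, ← map_inv]
    exact hlam _
  have hgen' : Zsub (invCoch lam) = T := by rw [NC.Zsub_inv, hgen]
  have hB := PbGen.isBorelPt_Psub (CertRed.rankOnePt K) hred hT hlam hgen.le
  have hB' := PbGen.isBorelPt_Psub (CertRed.rankOnePt K) hred hT hlam' hgen'.le
  have h1 := le_of_isBorelPt hN hcl hconn hunip (Groth.Agent.Agf.H623.SurjBorel.isBorelPt_map φ hφ hB)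
  have h2 := le_of_isBorelPt hN hcl hconn hunip (Groth.Agent.Agf.H623.SurjBorel.isBorelPt_map φ hφ hB')
  rw [eq_bot_iff]
  intro x hx
  obtain ⟨b, hb, hbx⟩ := h1 hx
  obtain ⟨b', hb', hbx'⟩ := h2 hx
  have h3 : x ∈ Psub (lam.comp φ) := by
    rw [← hbx]
    exact map_mem_Psub hb
  have h4 : x ∈ Psub ((invCoch lam).comp φ) := by
    rw [← hbx']
    exact map_mem_Psub hb'
  -- the limit is in the image of the torus and unipotent
  have h5 : limPt ((invCoch lam).comp φ) x h4 = Pt.map φ (limPt (invCoch lam) b' hb') := by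
    subst hbx'
    exact limPt_map hb'
  have h6 : limPt (invCoch lam) b' hb' ∈ T := by
    rw [← hgen']
    exact limPt_mem_Zsub _ hb'
  have h7 : limPt ((invCoch lam).comp φ) x h4 ∈ N := limPt_mem_of_normal hcl hN h4 hx
  have h8 : limPt ((invCoch lam).comp φ) x h4 = 1 := by
    have h9 := hunip _ h7
    rw [h5] at h9 ⊢
    exact Groth.Agent.Agf.H609.MaxTorImg.eq_one_of_isUnip_of_mem
      (Groth.Agent.Agf.H609.MaxTorImg.isTorusSub_map φ hT.1) ⟨_, h6, rfl⟩ h9
  have h9 : x ∈ Usub (invCoch (lam.comp φ)) := by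
    rw [invCoch_comp]
    exact (limPt_eq_one_iff _ h4).mp h8
  have h10 : x ∈ Usub (invCoch (lam.comp φ)) ⊓ Psub (lam.comp φ) := ⟨h9, h3⟩
  rwa [NC.Usub_inv_inf_Psub] at h10

end K215.RedImg
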