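import Groth.Agent.Red.K215.DualRoot
import Groth.Agent.Sga3B.BorSpan613
import Groth.Prelude.Def_Red2

/-!
# From a Chevalley system to a pinning with dual root homomorphisms

`G` split with splitting `D`, `v c`, `vd c` the root homomorphisms of a Chevalley system (at the level
of root groups). For a base `Δ` of the root datum, `chevPin` is the pinning of `G` whose root
homomorphisms are `v c` for `c` positive and `vd (-c)` for `c` negative.
-/

set_option autoImplicit false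
set_option linter.unusedSectionVars false
universe u
open CategoryTheory MonoidalCategory CartesianMonoidalCategory MonObj GrpObj AlgebraicGeometry Limits

namespace K215.ChevPin

open Groth.Agent.Sga3B Groth.Agent.Sga3B.DSPts Groth.Agent.Sga3B.GaPts Groth.Agent.Sga3.H811.Pts
open K215.RankOne

variable {S : Scheme.{u}} {G : Over S} [GrpObj G]

/-- coroots and roots -/
theorem coroot_comp (D : Red.SplitRed G) (c : D.idx) :
    (Red.DSmap S (D.P.coroot c).toAddMonoidHom ≫ D.split.inv.hom.hom) ≫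
      D.split.hom.hom.hom ≫ Red.chi S (D.P.root c) = (𝟙 (Red.Gm S)) ^ 2 := by
  have h3 : D.split.inv.hom.hom ≫ D.split.hom.hom.hom = 𝟙 _ := by
    have := congr(($(D.split.inv_hom_id)).hom.hom)
    exact this
  rw [Category.assoc, reassoc_of% h3]
  apply (dsEquiv (Red.Gm S) ℤ).symm.injective
  rw [map_pow]
  change dsChar (_ ≫ Red.DSmap S (zmultiplesHom D.M (D.P.root c))) = (dsChar (𝟙 (Red.Gm S))) ^ 2
  rw [dsChar_DSmap]
  have h4 : dsChar (Red.DSmap S (D.P.coroot c).toAddMonoidHom) =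
      (dsChar (𝟙 (Red.Gm S))).comp (AddMonoidHom.toMultiplicative (D.P.coroot c).toAddMonoidHom) := by
    rw [← dsChar_DSmap, Category.id_comp]
  rw [h4]
  refine MonoidHom.ext fun m => ?_
  have h5 : (D.P.coroot c) (D.P.root c) = 2 := by
    have h6 := D.P.root_coroot_eq_pairing c c
    rw [D.P.pairing_same] at h6
    rw [← h6, D.pairing_eq]
    rfl
  change dsChar (𝟙 (Red.Gm S)) (Multiplicative.ofAdd ((D.P.coroot c) (m.toAdd • D.P.root c))) =
    (dsChar (𝟙 (Red.Gm S)) m) ^ 2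
  rw [map_smul, h5, smul_eq_mul, mul_comm, ← map_pow]
  congr 1

variable (D : Red.SplitRed G) (v vd : D.idx → (Red.Ga S ⟶ G))

/-- A Chevalley system at the level of root groups. -/
structure Chev (e₁ : 𝟙_ (Over S) ⟶ Red.Ga S) (n : D.idx → (𝟙_ (Over S) ⟶ G)) : Prop where
  he₁ : Red.gaFn e₁ = 1
  hv : ∀ c, Red.IsRootHom D.i (D.split.hom.hom.hom ≫ Red.chi S (D.P.root c)) (v c)
  hvm : ∀ c, IsMonHom (vd c)
  hvd : ∀ c, RelH D.i (v c) (vd c)
    (Red.DSmap S (D.P.coroot c).toAddMonoidHom ≫ D.split.inv.hom.hom)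
  hn : ∀ c, n c = (e₁ ≫ v c) * (e₁ ≫ vd c)⁻¹ * (e₁ ≫ v c)
  hSC : ∀ c b, ∃ ε : ℤ, (ε = 1 ∨ ε = -1) ∧ ∀ (X : Over S) (x y : X ⟶ Red.Ga S),
      Red.gaFn y = (ε : Γ(X.left, ⊤)) * Red.gaFn x →
        (toUnit X ≫ n c) * (x ≫ v b) * (toUnit X ≫ n c)⁻¹ = y ≫ v (D.P.reflectionPerm c b)

variable {D v vd}
variable {e₁ : 𝟙_ (Over S) ⟶ Red.Ga S} {n : D.idx → (𝟙_ (Over S) ⟶ G)}

theorem Chev.toUnit_n (h : Chev D v vd e₁ n) (c : D.idx) (X : Over S) :
    have := (h.hv c).1
    have := h.hvm c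
    toUnit X ≫ n c = DualRoot.ww (v c) (vd c) X := by
  intro _ _
  have h1 : ∀ p : Red.Ga S ⟶ G, [IsMonHom p] → toUnit X ≫ e₁ ≫ p = P p X 1 := by
    intro p _
    rw [← Category.assoc, ← P_gaFn, gaFn_comp, h.he₁, map_one]
  rw [h.hn, MonObj.comp_mul, MonObj.comp_mul, GrpObj.comp_inv, h1, h1, DualRoot.ww, P_neg]

/-- The dual root homomorphism is the root homomorphism of the opposite root up to sign. -/
theorem Chev.exists_sign (h : Chev D v vd e₁ n) (c : D.idx) :
    ∃ ε : ℤ, (ε = 1 ∨ ε = -1) ∧ ∀ (X : Over S) (x y : X ⟶ Red.Ga S),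
      Red.gaFn y = (ε : Γ(X.left, ⊤)) * Red.gaFn x →
        x ≫ vd c = y ≫ v (D.P.reflectionPerm c c) := by
  obtain ⟨ε, hε, H⟩ := h.hSC c c
  have i1 := (h.hv c).1
  have i2 := h.hvm c
  have i3 := D.maximalTorus.1
  have i4 : IsMonHom (Red.DSmap S (D.P.coroot c).toAddMonoidHom ≫ D.split.inv.hom.hom) := by
    have := BorSpan613.isMonHom_DSmap S (D.P.coroot c).toAddMonoidHom
    infer_instance
  refine ⟨-ε, by omega, fun X x y hy => ?_⟩
  have h1 := DualRoot.conj (h.hv c).2.2 (coroot_comp D c) (h.hvd c) X (-Red.gaFn x)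
  rw [neg_neg, P_gaFn] at h1
  rw [← h1, ← h.toUnit_n c X]
  refine H X (gaPt X (-Red.gaFn x)) y ?_
  rw [hy, gaFn_gaPt]
  push_cast
  ring

/-- the dual root homomorphisms are root homomorphisms -/
theorem Chev.isRootHom (h : Chev D v vd e₁ n) (c : D.idx) :
    Red.IsRootHom D.i (D.split.hom.hom.hom ≫ Red.chi S (D.P.root (D.P.reflectionPerm c c)))
      (vd c) := by
  obtain ⟨ε, hε, H⟩ := h.exists_sign c
  have i1 := (h.hv (D.P.reflectionPerm c c))
  refine ⟨h.hvm c, ?_, fun X t x => ?_⟩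
  · rcases hε with rfl | rfl
    · have h1 := H (Red.Ga S) (𝟙 _) (𝟙 _) (by push_cast; ring)
      rw [Category.id_comp, Category.id_comp] at h1
      rw [h1]
      exact i1.2.1
    · have h1 := H (Red.Ga S) (𝟙 _) (𝟙 _)⁻¹ (by rw [gaFn_inv]; push_cast; ring)
      rw [Category.id_comp] at h1
      rw [h1, Over.comp_left]
      have h2 := i1.2.1
      have h3 : IsIso ((𝟙 (Red.Ga S))⁻¹ : Red.Ga S ⟶ Red.Ga S) := by
        have h4 : ((𝟙 (Red.Ga S))⁻¹ : Red.Ga S ⟶ Red.Ga S) ≫ (𝟙 (Red.Ga S))⁻¹ = 𝟙 _ := by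
          rw [GrpObj.comp_inv, Category.comp_id]
          exact _root_.inv_inv (G := (Red.Ga S ⟶ Red.Ga S)) _
        exact ⟨_, h4, h4⟩
      have h5 : IsIso ((𝟙 (Red.Ga S))⁻¹ : Red.Ga S ⟶ Red.Ga S).left :=
        inferInstanceAs (IsIso ((Over.forget _).map ((𝟙 (Red.Ga S))⁻¹ : Red.Ga S ⟶ Red.Ga S)))
      infer_instance
  · obtain ⟨y, hy1, hy2⟩ := i1.2.2 X t (gaPt X ((ε : Γ(X.left, ⊤)) * Red.gaFn x))
    have hε2 : (ε : Γ(X.left, ⊤)) * ε = 1 := by
      rcases hε with rfl | rfl <;> simp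
    refine ⟨gaPt X ((ε : Γ(X.left, ⊤)) * Red.gaFn y), ?_, ?_⟩
    · rw [H X x (gaPt X ((ε : Γ(X.left, ⊤)) * Red.gaFn x)) (by rw [gaFn_gaPt]), ← hy1]
      refine H X _ y ?_
      rw [gaFn_gaPt, ← _root_.mul_assoc, hε2, _root_.one_mul]
    · rw [gaFn_gaPt, hy2, gaFn_gaPt, mul_left_comm, ← _root_.mul_assoc (ε : Γ(X.left, ⊤)), hε2,
        _root_.one_mul]

lemma reflectionPerm_self_self (c : D.idx) :
    D.P.reflectionPerm (D.P.reflectionPerm c c) (D.P.reflectionPerm c c) = c := by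
  apply D.P.root.injective
  rw [D.P.root_reflectionPerm, D.P.reflection_apply_self, D.P.root_reflectionPerm,
    D.P.reflection_apply_self, neg_neg]

/-- the root homomorphisms adapted to a base -/
noncomputable def uOf (v vd : D.idx → (Red.Ga S ⟶ G)) (Δ : D.P.Base) (c : D.idx) : Red.Ga S ⟶ G := by
  classical exact if Δ.IsPos c then v c else vd (D.P.reflectionPerm c c)

lemma uOf_pos (v vd : D.idx → (Red.Ga S ⟶ G)) (Δ : D.P.Base) {c : D.idx} (hc : Δ.IsPos c) :
    uOf v vd Δ c = v c := if_pos hc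

lemma uOf_neg (v vd : D.idx → (Red.Ga S ⟶ G)) (Δ : D.P.Base) {c : D.idx} (hc : Δ.IsPos c) :
    uOf v vd Δ (D.P.reflectionPerm c c) = vd c := by
  have h1 : ¬ Δ.IsPos (D.P.reflectionPerm c c) := by
    have h2 : Δ.height (D.P.reflectionPerm c c) = -Δ.height c := Δ.height_reflectionPerm_self c
    have h3 : 0 < Δ.height c := hc
    rw [RootPairing.Base.isPos_iff, h2]
    omega
  refine (if_neg h1).trans ?_
  rw [reflectionPerm_self_self]

/-- **The pinning adapted to a base.** -/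
noncomputable def chevPin (h : Chev D v vd e₁ n) (Δ : D.P.Base) : Red.Pinning G where
  T := D.T
  i := D.i
  M := D.M
  idx := D.idx
  P := D.P
  pairing_eq := D.pairing_eq
  u := uOf v vd Δ
  reductive := D.reductive
  maximalTorus := D.maximalTorus
  split := D.split
  rootHom c := by
    by_cases hc : Δ.IsPos c
    · rw [uOf_pos v vd Δ hc]
      exact h.hv c
    · have h1 : uOf v vd Δ c = vd (D.P.reflectionPerm c c) := if_neg hc
      rw [h1]
      have h2 := h.isRootHom (D.P.reflectionPerm c c)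
      rwa [reflectionPerm_self_self] at h2
  refl := D.refl
  dim_fibre := D.dim_fibre
  base := Δ

end K215.ChevPin
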