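import Groth.Agent.Red.K212.R1Geo
import Groth.Agent.Sga3B.MaxTorNear900

/-!
# Rank one systems: extension of homomorphisms

Let `(G, T, α, p₊, p₋, α^*)` be a rank one system with open cell and irreducible geometric fibres.
Every `S`-group `L` with a homomorphism `j : T ⟶ L` and two homomorphisms `r₊ r₋ : 𝔾_a ⟶ L` which
satisfy the rank one relations (`R1Hyp j α r₊ r₋ av`) receives exactly one homomorphism `f : G ⟶ L`
with `i ≫ f = j`, `p₊ ≫ f = r₊`, `p₋ ≫ f = r₋`.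
-/

set_option autoImplicit false
set_option maxHeartbeats 400000
universe u
open CategoryTheory MonoidalCategory CartesianMonoidalCategory MonObj GrpObj AlgebraicGeometry Limits

namespace K215.R1Ext

open Groth.Agent.Sga3B.DSPts Groth.Agent.Sga3B.GaPts Groth.Agent.Sga3.H811.Pts K212.R1Alg K212.R1Mk
open K212.Gen K212.R1Conj K212.Weight K212.Fn K212.Kpt K212.R1Geo

variable {S : Scheme.{u}}

/-- gluing of morphisms over `S` along a family of open immersions -/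
theorem exists_glue {X Y : Over S} {J : Type} (U : J → Over S) (a : ∀ j, U j ⟶ X)
    (ha : ∀ j, IsOpenImmersion (a j).left) (hc : ∀ x : X.left, ∃ j, x ∈ Set.range (a j).left)
    (v : ∀ j, U j ⟶ Y)
    (h : ∀ (j k : J) (Z : Over S) (z : Z ⟶ U j) (z' : Z ⟶ U k), z ≫ a j = z' ≫ a k →
      z ≫ v j = z' ≫ v k) : ∃ f : X ⟶ Y, ∀ j, a j ≫ f = v j := by
  let 𝒰 : Scheme.OpenCover.{0} X.left :=
    Scheme.Cover.mkOfCovers J (fun j => (U j).left) (fun j => (a j).left)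
      (fun x => by obtain ⟨j, y, hy⟩ := hc x; exact ⟨j, y, hy⟩) ha
  let F : X.left ⟶ Y.left := 𝒰.glueMorphisms (fun j => (v j).left) (fun j k => by
    let Z : Over S := Over.mk (pullback.fst (a j).left (a k).left ≫ (U j).hom)
    let z : Z ⟶ U j := Over.homMk (pullback.fst (a j).left (a k).left) rfl
    let z' : Z ⟶ U k := Over.homMk (pullback.snd (a j).left (a k).left) (by
      change pullback.snd _ _ ≫ (U k).hom = pullback.fst _ _ ≫ (U j).hom
      rw [← Over.w (a j), ← Over.w (a k), pullback.condition_assoc])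
    have hz : z ≫ a j = z' ≫ a k := by
      ext1
      exact pullback.condition
    exact congrArg (fun t => t.left) (h j k Z z z' hz))
  have hF : ∀ j, (a j).left ≫ F = (v j).left := fun j => Scheme.Cover.ι_glueMorphisms 𝒰 _ _ j
  refine ⟨Over.homMk F ?_, fun j => ?_⟩
  · refine Scheme.Cover.hom_ext 𝒰 _ _ fun j => ?_
    change (a j).left ≫ F ≫ Y.hom = (a j).left ≫ X.hom
    rw [← Category.assoc, hF, Over.w, Over.w]
  · ext1
    exact hF j

variable {G T : Over S} [GrpObj G] [GrpObj T]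
  {i : T ⟶ G} {α : T ⟶ Red.Gm S} {pp pm : Red.Ga S ⟶ G} {av : Red.Gm S ⟶ T}
  (H : R1Hyp i α pp pm av)

/-- the coordinates on the cell, as a function of points -/
noncomputable def cel {X : Over S} (a : Γ(X.left, ⊤)) (s : X ⟶ T) (b : Γ(X.left, ⊤)) : X ⟶ G :=
  (H.sys X).q a * (H.sys X).t s * (H.sys X).p b

lemma cel_nat {X X' : Over S} (f : X' ⟶ X) (a : Γ(X.left, ⊤)) (s : X ⟶ T) (b : Γ(X.left, ⊤)) :
    f ≫ cel H a s b = cel H (f.left.appTop a) (f ≫ s) (f.left.appTop b) := by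
  rw [cel, MonObj.comp_mul, MonObj.comp_mul, q_nat, t_nat, p_nat, cel]

/-- `w(1) p₋(c) t p₊(b)` in cell coordinates for a unit `c` -/
lemma w_cel {X : Over S} (c : Γ(X.left, ⊤)ˣ) (s : X ⟶ T) (b : Γ(X.left, ⊤)) :
    (H.sys X).w 1 * cel H (c : Γ(X.left, ⊤)) s b =
      cel H (-((c⁻¹ : Γ(X.left, ⊤)ˣ) : Γ(X.left, ⊤))) (gmPt X c ≫ av * s)
        ((((uPt (s ≫ α))⁻¹ : Γ(X.left, ⊤)ˣ) : Γ(X.left, ⊤)) * ((c⁻¹ : Γ(X.left, ⊤)ˣ) : Γ(X.left, ⊤)) + b) := by
  have h1 := w_q_cell H 1 c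
  have e1 : ((1⁻¹ ^ 2 * c⁻¹ : Γ(X.left, ⊤)ˣ)) = c⁻¹ := by rw [inv_one, one_pow, _root_.one_mul]
  rw [e1, _root_.one_mul] at h1
  have h2 := (H.sys X).pt s ((c⁻¹ : Γ(X.left, ⊤)ˣ) : Γ(X.left, ⊤))
  rw [cel, cel, R1.p_add, ← _root_.mul_assoc, ← _root_.mul_assoc, h1,
    _root_.mul_assoc (_ * _) ((H.sys X).p _) ((H.sys X).t s), h2]
  have h3 : (H.sys X).t (gmPt X c ≫ av * s) = (H.sys X).h c * (H.sys X).t s := by
    rw [map_mul]; rfl
  rw [h3]
  simp only [_root_.mul_assoc]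
  rfl

variable (hΩ : IsOpenImmersion (cell i pp pm).left)

include hΩ in
/-- if `w(1) · p₋(a') t p₊(b')` is in the cell then `a'` is a unit -/
lemma isUnit_of_w_cel {X : Over S} {a' b' : Γ(X.left, ⊤)} {s' : X ⟶ T}
    (h : InCell H X ((H.sys X).w 1 * cel H a' s' b')) : IsUnit a' := by
  refine isUnit_of_ne_zero fun x h0 => ?_
  obtain ⟨z⟩ := (isFld_rp X x).ne
  have h1 := h.nat (rf X x)
  rw [MonObj.comp_mul, w_nat, map_one, cel_nat, h0] at h1
  refine not_both H hΩ z h1 ⟨rf X x ≫ s', (rf X x).left.appTop b', ?_⟩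
  rw [cel, R1.q_zero, _root_.one_mul]
  simp only [_root_.mul_assoc]

section two

variable {L : Over S} [GrpObj L] {j : T ⟶ L} {rp rm : Red.Ga S ⟶ L} (H' : R1Hyp j α rp rm av)

include hΩ in
lemma agree {X : Over S} {a b a' b' : Γ(X.left, ⊤)} {s s' : X ⟶ T}
    (h : cel H a s b = (H.sys X).w 1 * cel H a' s' b') :
    cel H' a s b = (H'.sys X).w 1 * cel H' a' s' b' := by
  obtain ⟨c, rfl⟩ := isUnit_of_w_cel H hΩ ⟨a, s, b, h.symm⟩
  rw [w_cel H] at h
  obtain ⟨h1, h2, h3⟩ := cell_inj H hΩ h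
  rw [w_cel H', h1, h2, h3]

/-- the pieces of the cover -/
noncomputable def piece (b : Bool) : (Red.Ga S ⊗ T) ⊗ Red.Ga S ⟶ G :=
  if b then cell i pp pm else wcell H

lemma comp_piece_true {X : Over S} (z : X ⟶ (Red.Ga S ⊗ T) ⊗ Red.Ga S) :
    z ≫ piece H true = cel H (Red.gaFn (z ≫ fst _ _ ≫ fst _ _)) (z ≫ fst _ _ ≫ snd _ _)
      (Red.gaFn (z ≫ snd _ _)) := by
  change z ≫ cell i pp pm = _
  rw [comp_cell, cel, comp_pp H, comp_pm H, comp_i H]

lemma comp_piece_false {X : Over S} (z : X ⟶ (Red.Ga S ⊗ T) ⊗ Red.Ga S) :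
    z ≫ piece H false = (H.sys X).w 1 * cel H (Red.gaFn (z ≫ fst _ _ ≫ fst _ _))
      (z ≫ fst _ _ ≫ snd _ _) (Red.gaFn (z ≫ snd _ _)) := by
  change z ≫ wcell H = _
  rw [wcell, MonObj.comp_mul, ← Category.assoc, toUnit_unique (z ≫ toUnit _) (toUnit _), toUnit_w₀,
    comp_cell, cel, comp_pp H, comp_pm H, comp_i H]

lemma wcell_eq : wcell H = cell i pp pm ≫ lw H := by
  rw [comp_lw, wcell, toUnit_w₀]

lemma wcell_apply {u : G.left} {y : ((Red.Ga S ⊗ T) ⊗ Red.Ga S).left}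
    (hy : (cell i pp pm).left y = (lw' H).left u) : (wcell H).left y = u := by
  have h1 : (wcell H).left = (cell i pp pm).left ≫ (lw H).left := by rw [wcell_eq, Over.comp_left]
  have h2 : (lw' H).left ≫ (lw H).left = 𝟙 G.left := by rw [← Over.comp_left, lw'_lw, Over.id_left]
  rw [h1, Scheme.Hom.comp_apply, hy, ← Scheme.Hom.comp_apply, h2]
  simp

include hΩ in
lemma isOpenImmersion_wcell : IsOpenImmersion (wcell H).left := by
  have h1 : IsIso (lw H) := (lwIso H).isIso_hom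
  have h2 : IsIso (lw H).left := inferInstanceAs (IsIso ((Over.forget S).map (lw H)))
  rw [wcell_eq, Over.comp_left]
  infer_instance

variable [LocallyOfFiniteType G.hom] (hirr : ∀ s : S, IrreducibleSpace (Red.geomFibre s G).left)

include hΩ hirr in
lemma cover_piece (u : G.left) : ∃ b : Bool, u ∈ Set.range (piece H b).left := by
  rcases cover H hΩ hirr u with h | h
  · exact ⟨true, h⟩
  · obtain ⟨y, hy⟩ := h
    have h1 := wcell_apply H hy
    have h2 : u ∈ Set.range (wcell H).left := ⟨y, h1⟩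
    exact ⟨false, h2⟩

omit [LocallyOfFiniteType G.hom] in
include hΩ in
lemma isOpenImmersion_piece (b : Bool) : IsOpenImmersion (piece H b).left := by
  cases b
  · exact isOpenImmersion_wcell H hΩ
  · exact hΩ

omit [LocallyOfFiniteType G.hom] in
include hΩ in
lemma agree_piece (b b' : Bool) (Z : Over S) (z z' : Z ⟶ (Red.Ga S ⊗ T) ⊗ Red.Ga S)
    (h : z ≫ piece H b = z' ≫ piece H b') : z ≫ piece H' b = z' ≫ piece H' b' := by
  have key : ∀ b, z ≫ piece H b = z' ≫ piece H b → z = z' := by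
    intro b hb
    have h1 := isOpenImmersion_piece H hΩ b
    have h2 : Mono (piece H b) := Over.mono_of_mono_left (piece H b)
    exact (cancel_mono (piece H b)).1 hb
  cases b with
  | false =>
    cases b' with
    | false => rw [key false h]
    | true =>
      rw [comp_piece_false H z, comp_piece_true H z'] at h
      rw [comp_piece_false H' z, comp_piece_true H' z']
      exact (agree H hΩ H' h.symm).symm
  | true =>
    cases b' with
    | false =>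
      rw [comp_piece_false H z', comp_piece_true H z] at h
      rw [comp_piece_false H' z', comp_piece_true H' z]
      exact agree H hΩ H' h
    | true => rw [key true h]

include hΩ hirr in
/-- existence of the glued morphism -/
theorem exists_mor : ∃ f : G ⟶ L, cell i pp pm ≫ f = cell j rp rm ∧ wcell H ≫ f = wcell H' := by
  obtain ⟨f, hf⟩ := exists_glue (X := G) (Y := L) (fun _ : Bool => (Red.Ga S ⊗ T) ⊗ Red.Ga S) (piece H)
    (isOpenImmersion_piece H hΩ) (cover_piece H hΩ hirr) (piece H') (agree_piece H hΩ H')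
  exact ⟨f, hf true, hf false⟩


section hom

variable {f : G ⟶ L}

omit [LocallyOfFiniteType G.hom] in
lemma f_cel (h1 : cell i pp pm ≫ f = cell j rp rm) {X : Over S} (a : Γ(X.left, ⊤)) (s : X ⟶ T)
    (b : Γ(X.left, ⊤)) : cel H a s b ≫ f = cel H' a s b := by
  rw [cel, cel, cell_eq, cell_eq, Category.assoc, h1]

omit [LocallyOfFiniteType G.hom] in
lemma comp_wcell {X : Over S} (z : X ⟶ (Red.Ga S ⊗ T) ⊗ Red.Ga S) :
    z ≫ wcell H = (H.sys X).w 1 * (z ≫ cell i pp pm) := by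
  rw [wcell, MonObj.comp_mul, ← Category.assoc, toUnit_unique (z ≫ toUnit _) (toUnit _), toUnit_w₀]

omit [LocallyOfFiniteType G.hom] in
lemma f_wcel (h2 : wcell H ≫ f = wcell H') {X : Over S} (a : Γ(X.left, ⊤)) (s : X ⟶ T)
    (b : Γ(X.left, ⊤)) : ((H.sys X).w 1 * cel H a s b) ≫ f = (H'.sys X).w 1 * cel H' a s b := by
  rw [cel, cel, cell_eq, cell_eq, ← comp_wcell H, ← comp_wcell H', Category.assoc, h2]

omit [LocallyOfFiniteType G.hom] in
lemma t_mul_cel {X : Over S} (s' : X ⟶ T) (a : Γ(X.left, ⊤)) (s : X ⟶ T)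
    (b : Γ(X.left, ⊤)) : (H.sys X).t s' * cel H a s b =
      cel H ((((uPt (s' ≫ α))⁻¹ : Γ(X.left, ⊤)ˣ) : Γ(X.left, ⊤)) * a) (s' * s) b := by
  rw [cel, ← _root_.mul_assoc, ← _root_.mul_assoc, (H.sys X).tq, cel, map_mul]
  simp only [_root_.mul_assoc]
  rfl

omit [LocallyOfFiniteType G.hom] in
lemma q_mul_cel {X : Over S} (x : Γ(X.left, ⊤)) (a : Γ(X.left, ⊤)) (s : X ⟶ T)
    (b : Γ(X.left, ⊤)) : (H.sys X).q x * cel H a s b = cel H (x + a) s b := by
  rw [cel, cel, R1.q_add]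
  simp only [_root_.mul_assoc]

omit [LocallyOfFiniteType G.hom] in
lemma h_mul_cel {X : Over S} (z : Γ(X.left, ⊤)ˣ) (a : Γ(X.left, ⊤)) (s : X ⟶ T)
    (b : Γ(X.left, ⊤)) : (H.sys X).h z * cel H a s b =
      cel H ((((uPt ((gmPt X z ≫ av) ≫ α))⁻¹ : Γ(X.left, ⊤)ˣ) : Γ(X.left, ⊤)) * a) (gmPt X z ≫ av * s) b :=
  t_mul_cel H (gmPt X z ≫ av) a s b

omit [LocallyOfFiniteType G.hom] in
/-- `p₊(x) · cell` when `1 + x a` is a unit -/
lemma p_mul_cel {X : Over S} (x a : Γ(X.left, ⊤)) (s : X ⟶ T)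
    (b : Γ(X.left, ⊤)) (z : Γ(X.left, ⊤)ˣ) (hz : (z : Γ(X.left, ⊤)) = 1 + x * a) :
    (H.sys X).p x * cel H a s b =
      cel H (((z⁻¹ : Γ(X.left, ⊤)ˣ) : Γ(X.left, ⊤)) * a) (gmPt X z ≫ av * s)
        ((((uPt (s ≫ α))⁻¹ : Γ(X.left, ⊤)ˣ) : Γ(X.left, ⊤)) * (((z⁻¹ : Γ(X.left, ⊤)ˣ) : Γ(X.left, ⊤)) * x) + b) := by
  have h2 := (H.sys X).pt s (((z⁻¹ : Γ(X.left, ⊤)ˣ) : Γ(X.left, ⊤)) * x)
  rw [cel, cel, R1.p_add, ← _root_.mul_assoc, ← _root_.mul_assoc, (H.sys X).F' x a z hz,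
    _root_.mul_assoc (_ * _) ((H.sys X).p _) ((H.sys X).t s), h2]
  have h3 : (H.sys X).t (gmPt X z ≫ av * s) = (H.sys X).h z * (H.sys X).t s := by
    rw [map_mul]; rfl
  rw [h3]
  simp only [_root_.mul_assoc]
  rfl

omit [LocallyOfFiniteType G.hom] in
/-- `w(1) · p₊(x) · cell` when `a` is a unit -/
lemma w_mul_p_mul_cel {X : Over S} (x : Γ(X.left, ⊤)) (c : Γ(X.left, ⊤)ˣ) (s : X ⟶ T)
    (b : Γ(X.left, ⊤)) :
    (H.sys X).w 1 * ((H.sys X).p x * cel H (c : Γ(X.left, ⊤)) s b) =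
      cel H (-x + -((c⁻¹ : Γ(X.left, ⊤)ˣ) : Γ(X.left, ⊤))) (gmPt X c ≫ av * s)
        ((((uPt (s ≫ α))⁻¹ : Γ(X.left, ⊤)ˣ) : Γ(X.left, ⊤)) * ((c⁻¹ : Γ(X.left, ⊤)ˣ) : Γ(X.left, ⊤)) + b) := by
  have h1 := w_p H (X := X) 1 x
  rw [inv_one, Units.val_one, one_pow, _root_.one_mul] at h1
  rw [← _root_.mul_assoc, h1, _root_.mul_assoc, w_cel, q_mul_cel]

variable (h1 : cell i pp pm ≫ f = cell j rp rm) (h2 : wcell H ≫ f = wcell H')

include hΩ hirr in
lemma ind {X : Over S} (g l : X ⟶ G) (l' : X ⟶ L)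
    (h : ∀ (X' : Over S) (k : X' ⟶ X), (InCell H X' (k ≫ g) ∨ InW H X' (k ≫ g)) →
      ((k ≫ l) * (k ≫ g)) ≫ f = (k ≫ l') * ((k ≫ g) ≫ f)) : (l * g) ≫ f = l' * (g ≫ f) := by
  refine eq_of_flat _ _ fun x => ?_
  obtain ⟨X', k, hk, hx, hc⟩ := exists_open H hΩ hirr g x
  refine ⟨X', k, inferInstance, hx, ?_⟩
  rw [← Category.assoc, MonObj.comp_mul, h X' k hc, MonObj.comp_mul, Category.assoc]

include hΩ hirr h1 h2 in
lemma f_t {X : Over S} (s : X ⟶ T) (g : X ⟶ G) :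
    ((H.sys X).t s * g) ≫ f = (H'.sys X).t s * (g ≫ f) := by
  refine ind H hΩ hirr g _ _ fun X' k hc => ?_
  rw [t_nat, t_nat]
  generalize k ≫ g = g at hc
  generalize k ≫ s = s
  rcases hc with ⟨a, s', b, rfl⟩ | ⟨a, s', b, hg⟩
  · change ((H.sys X').t s * cel H a s' b) ≫ f = (H'.sys X').t s * (cel H a s' b ≫ f)
    rw [t_mul_cel, f_cel H H' h1, f_cel H H' h1, t_mul_cel]
  · rw [inv_mul_eq_iff_eq_mul] at hg
    change g = (H.sys X').w 1 * cel H a s' b at hg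
    rw [hg, ← _root_.mul_assoc, t_w', _root_.mul_assoc, t_mul_cel, f_wcel H H' h2, f_wcel H H' h2,
      ← _root_.mul_assoc ((H'.sys X').t s), t_w', _root_.mul_assoc ((H'.sys X').w 1), t_mul_cel]
    rfl

include hΩ hirr h1 h2 in
lemma f_w {X : Over S} (g : X ⟶ G) :
    ((H.sys X).w 1 * g) ≫ f = (H'.sys X).w 1 * (g ≫ f) := by
  refine ind H hΩ hirr g _ _ fun X' k hc => ?_
  rw [w_nat, w_nat, map_one]
  generalize k ≫ g = g at hc
  rcases hc with ⟨a, s', b, rfl⟩ | ⟨a, s', b, hg⟩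
  · change ((H.sys X').w 1 * cel H a s' b) ≫ f = (H'.sys X').w 1 * (cel H a s' b ≫ f)
    rw [f_wcel H H' h2, f_cel H H' h1]
  · rw [inv_mul_eq_iff_eq_mul] at hg
    change g = (H.sys X').w 1 * cel H a s' b at hg
    rw [hg, f_wcel H H' h2, ← _root_.mul_assoc, (H.sys X').w_sq, ← _root_.mul_assoc, (H'.sys X').w_sq,
      h_mul_cel, h_mul_cel, f_cel H H' h1]

omit [LocallyOfFiniteType G.hom] in
/-- Zariski-locally one of two functions generating the unit ideal is a unit -/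
lemma exists_open_unit {X : Over S} (c d e : Γ(X.left, ⊤)) (h : c + d * e = 1) (x : X.left) :
    ∃ (X' : Over S) (k : X' ⟶ X), IsOpenImmersion k.left ∧ x ∈ Set.range k.left ∧
      (IsUnit (k.left.appTop c) ∨ IsUnit (k.left.appTop e)) := by
  have key : ∀ a : Γ(X.left, ⊤), x ∈ X.left.basicOpen a → ∃ (X' : Over S) (k : X' ⟶ X),
      IsOpenImmersion k.left ∧ x ∈ Set.range k.left ∧ IsUnit (k.left.appTop a) := by
    intro a ha
    let U := X.left.basicOpen a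
    refine ⟨Over.mk (U.ι ≫ X.hom), Over.homMk U.ι rfl, ?_, ?_, ?_⟩
    · change IsOpenImmersion U.ι
      infer_instance
    · change x ∈ Set.range U.ι
      rw [Scheme.Opens.range_ι]; exact ha
    · change IsUnit (U.ι.appTop a)
      refine RingedSpace.isUnit_of_isUnit_germ _ ⊤ _ fun y hy => ?_
      have h5 : y ∈ (U : Scheme).basicOpen (U.ι.appTop a) := by
        rw [← Scheme.preimage_basicOpen_top]; exact y.2
      exact (Scheme.mem_basicOpen_top _ _ _).mp h5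
  by_cases hx : x ∈ X.left.basicOpen c
  · obtain ⟨X', k, h1, h2, h3⟩ := key c hx
    exact ⟨X', k, h1, h2, Or.inl h3⟩
  · have hx' : x ∈ X.left.basicOpen e := by
      by_contra he
      rw [Scheme.mem_basicOpen_top] at hx he
      have h3 : X.left.presheaf.germ ⊤ x trivial c + X.left.presheaf.germ ⊤ x trivial d *
          X.left.presheaf.germ ⊤ x trivial e = 1 := by
        rw [← map_mul, ← map_add, h, map_one]
      have h4 := IsLocalRing.isUnit_or_isUnit_of_add_one h3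
      rcases h4 with h4 | h4
      · exact hx h4
      · exact he (isUnit_of_mul_isUnit_right h4)
    obtain ⟨X', k, h1, h2, h3⟩ := key e hx'
    exact ⟨X', k, h1, h2, Or.inr h3⟩

include hΩ hirr h1 h2 in
lemma f_p {X : Over S} (x : Γ(X.left, ⊤)) (g : X ⟶ G) :
    ((H.sys X).p x * g) ≫ f = (H'.sys X).p x * (g ≫ f) := by
  refine ind H hΩ hirr g _ _ fun X' k hc => ?_
  rw [p_nat, p_nat]
  generalize k ≫ g = g at hc
  generalize k.left.appTop x = x
  rcases hc with ⟨a, s', b, hg⟩ | ⟨a, s', b, hg⟩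
  · change g = cel H a s' b at hg
    rw [hg, f_cel H H' h1]
    refine eq_of_flat _ _ fun z => ?_
    obtain ⟨X₂, k₂, hk₂, hz, hu⟩ := exists_open_unit (1 + x * a) (-x) a (by ring) z
    refine ⟨X₂, k₂, inferInstance, hz, ?_⟩
    rw [← Category.assoc, MonObj.comp_mul, MonObj.comp_mul, cel_nat, cel_nat, p_nat, p_nat]
    rw [map_add, map_one, map_mul] at hu
    generalize k₂ ≫ s' = s
    generalize k₂.left.appTop x = x at *
    generalize k₂.left.appTop a = a at *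
    generalize k₂.left.appTop b = b
    rcases hu with ⟨v, hv⟩ | ⟨c, rfl⟩
    · rw [p_mul_cel H x a s b v hv, p_mul_cel H' x a s b v hv, f_cel H H' h1]
    · have e1 := f_w H hΩ H' hirr h1 h2 ((H.sys X₂).p x * cel H (c : Γ(X₂.left, ⊤)) s b)
      rw [w_mul_p_mul_cel, f_cel H H' h1, ← w_mul_p_mul_cel H'] at e1
      exact (mul_left_cancel e1).symm
  · rw [inv_mul_eq_iff_eq_mul] at hg
    change g = (H.sys X').w 1 * cel H a s' b at hg
    rw [hg, ← _root_.mul_assoc, p_w, _root_.mul_assoc, q_mul_cel, f_wcel H H' h2, f_wcel H H' h2,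
      ← _root_.mul_assoc, p_w, _root_.mul_assoc, q_mul_cel]

include hΩ hirr h1 h2 in
lemma f_q {X : Over S} (x : Γ(X.left, ⊤)) (g : X ⟶ G) :
    ((H.sys X).q x * g) ≫ f = (H'.sys X).q x * (g ≫ f) := by
  have e1 : (H.sys X).q x = (H.sys X).w 1 * (H.sys X).p (-x) * ((H.sys X).w 1)⁻¹ := by
    rw [eq_mul_inv_iff_mul_eq, q_w]
  have e2 : (H'.sys X).q x = (H'.sys X).w 1 * (H'.sys X).p (-x) * ((H'.sys X).w 1)⁻¹ := by
    rw [eq_mul_inv_iff_mul_eq, q_w]
  have e3 : (((H.sys X).w 1)⁻¹ * g) ≫ f = ((H'.sys X).w 1)⁻¹ * (g ≫ f) := by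
    rw [eq_inv_mul_iff_mul_eq, ← f_w H hΩ H' hirr h1 h2, mul_inv_cancel_left]
  rw [e1, e2, _root_.mul_assoc, _root_.mul_assoc, f_w H hΩ H' hirr h1 h2, f_p H hΩ H' hirr h1 h2, e3,
    _root_.mul_assoc, _root_.mul_assoc]

include hΩ hirr h1 h2 in
lemma f_mul_cel {X : Over S} (a : Γ(X.left, ⊤)) (s : X ⟶ T) (b : Γ(X.left, ⊤)) (g : X ⟶ G) :
    (cel H a s b * g) ≫ f = cel H' a s b * (g ≫ f) := by
  rw [cel, cel, _root_.mul_assoc, _root_.mul_assoc, f_q H hΩ H' hirr h1 h2, f_t H hΩ H' hirr h1 h2,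
    f_p H hΩ H' hirr h1 h2, _root_.mul_assoc, _root_.mul_assoc]

include hΩ hirr h1 h2 in
lemma f_mul {X : Over S} (l g : X ⟶ G) : (l * g) ≫ f = (l ≫ f) * (g ≫ f) := by
  refine eq_of_flat _ _ fun x => ?_
  obtain ⟨X', k, hk, hx, hc⟩ := exists_open H hΩ hirr l x
  refine ⟨X', k, inferInstance, hx, ?_⟩
  rw [← Category.assoc, MonObj.comp_mul, MonObj.comp_mul, ← Category.assoc, ← Category.assoc]
  generalize k ≫ l = l at *
  generalize k ≫ g = g
  rcases hc with ⟨a, s, b, hl⟩ | ⟨a, s, b, hl⟩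
  · change l = cel H a s b at hl
    rw [hl, f_mul_cel H hΩ H' hirr h1 h2, f_cel H H' h1]
  · rw [inv_mul_eq_iff_eq_mul] at hl
    change l = (H.sys X').w 1 * cel H a s b at hl
    rw [hl, _root_.mul_assoc, f_w H hΩ H' hirr h1 h2, f_mul_cel H hΩ H' hirr h1 h2, f_wcel H H' h2,
      _root_.mul_assoc]

end hom

omit [LocallyOfFiniteType G.hom] in
lemma i_eq_cel {X : Over S} (s : X ⟶ T) : s ≫ i = cel H 0 s 0 := by
  rw [cel, R1.q_zero, R1.p_zero, _root_.one_mul, _root_.mul_one]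
  rfl

omit [LocallyOfFiniteType G.hom] in
lemma pp_eq_cel {X : Over S} (x : X ⟶ Red.Ga S) : x ≫ pp = cel H 0 1 (Red.gaFn x) := by
  rw [cel, R1.q_zero, map_one, _root_.one_mul, _root_.one_mul, comp_pp H]

omit [LocallyOfFiniteType G.hom] in
lemma pm_eq_cel {X : Over S} (x : X ⟶ Red.Ga S) : x ≫ pm = cel H (Red.gaFn x) 1 0 := by
  rw [cel, R1.p_zero, map_one, _root_.mul_one, _root_.mul_one, comp_pm H]

include H hΩ H' hirr in
/-- **Extension theorem.** -/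
theorem exists_hom : ∃ f : G ⟶ L, IsMonHom f ∧ i ≫ f = j ∧ pp ≫ f = rp ∧ pm ≫ f = rm := by
  obtain ⟨f, h1, h2⟩ := exists_mor H hΩ H' hirr
  refine ⟨f, Groth.Agent.Sga3B.Pts.isMonHom_of_points _ fun X g g' => f_mul H hΩ H' hirr h1 h2 g g', ?_, ?_, ?_⟩
  · have e1 := i_eq_cel H (𝟙 T)
    have e2 := i_eq_cel H' (𝟙 T)
    rw [Category.id_comp] at e1 e2
    exact ((congrArg (fun k => k ≫ f) e1).trans (f_cel H H' h1 _ _ _)).trans e2.symm
  · have e1 := pp_eq_cel H (𝟙 (Red.Ga S))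
    have e2 := pp_eq_cel H' (𝟙 (Red.Ga S))
    rw [Category.id_comp] at e1 e2
    exact ((congrArg (fun k => k ≫ f) e1).trans (f_cel H H' h1 _ _ _)).trans e2.symm
  · have e1 := pm_eq_cel H (𝟙 (Red.Ga S))
    have e2 := pm_eq_cel H' (𝟙 (Red.Ga S))
    rw [Category.id_comp] at e1 e2
    exact ((congrArg (fun k => k ≫ f) e1).trans (f_cel H H' h1 _ _ _)).trans e2.symm

omit [LocallyOfFiniteType G.hom] in
/-- the value of a homomorphism on the cell -/
lemma hom_cel {f : G ⟶ L} [IsMonHom f] (hi : i ≫ f = j) (hp : pp ≫ f = rp) (hm : pm ≫ f = rm) {X : Over S}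
    (a : Γ(X.left, ⊤)) (s : X ⟶ T) (b : Γ(X.left, ⊤)) :
    cel H a s b ≫ f = (gaPt X a ≫ rm) * (s ≫ j) * (gaPt X b ≫ rp) := by
  rw [cel, MonObj.mul_comp, MonObj.mul_comp]
  change ((gaPt X a ≫ pm) ≫ f) * ((s ≫ i) ≫ f) * ((gaPt X b ≫ pp) ≫ f) = _
  rw [Category.assoc, Category.assoc, Category.assoc, hi, hp, hm]

include H hΩ hirr in
/-- **Uniqueness.** A homomorphism is determined on the torus and the two root groups. -/
theorem hom_ext' {f f' : G ⟶ L} [IsMonHom f] [IsMonHom f'] (hi : i ≫ f = i ≫ f')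
    (hp : pp ≫ f = pp ≫ f') (hm : pm ≫ f = pm ≫ f') : f = f' := by
  have key : ∀ {X : Over S} (a : Γ(X.left, ⊤)) (s : X ⟶ T) (b : Γ(X.left, ⊤)),
      cel H a s b ≫ f = cel H a s b ≫ f' := by
    intro X a s b
    rw [hom_cel H rfl rfl rfl, hom_cel H (f := f') hi.symm hp.symm hm.symm]
  have hw : ∀ X : Over S, (H.sys X).w 1 ≫ f = (H.sys X).w 1 ≫ f' := by
    intro X
    have hp' : ∀ x : Γ(X.left, ⊤), (H.sys X).p x ≫ f = (H.sys X).p x ≫ f' := by
      intro x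
      change (gaPt X x ≫ pp) ≫ f = (gaPt X x ≫ pp) ≫ f'
      rw [Category.assoc, Category.assoc, hp]
    have hq' : ∀ x : Γ(X.left, ⊤), (H.sys X).q x ≫ f = (H.sys X).q x ≫ f' := by
      intro x
      change (gaPt X x ≫ pm) ≫ f = (gaPt X x ≫ pm) ≫ f'
      rw [Category.assoc, Category.assoc, hm]
    rw [R1.w_def, MonObj.mul_comp, MonObj.mul_comp, MonObj.mul_comp, MonObj.mul_comp, hp', hq']
  refine eq_of_flat _ _ fun x => ?_
  obtain ⟨X', k, hk, hx, hc⟩ := exists_open H hΩ hirr (𝟙 G) x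
  refine ⟨X', k, inferInstance, hx, ?_⟩
  rw [Category.comp_id] at hc
  rcases hc with ⟨a, s, b, hl⟩ | ⟨a, s, b, hl⟩
  · change k = cel H a s b at hl
    rw [hl, key]
  · rw [inv_mul_eq_iff_eq_mul] at hl
    change k = (H.sys X').w 1 * cel H a s b at hl
    rw [hl, MonObj.mul_comp, MonObj.mul_comp, hw, key]

end two

end K215.R1Ext
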