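import Groth.Agent.Sga3B.BaseZ

/-!
# Bases of root data containing a given `G₂`-pair

* `exists_functional_ne`: functionals not vanishing on finitely many nonzero vectors;
* `mem_support_of_apply_eq_one`: a root with minimal positive value is simple;
* `exists_base_of_g2`: two roots `a`, `b` with `⟨b, a^∨⟩ = -3`, `⟨a, b^∨⟩ = -1` are simple in some base.
-/

set_option autoImplicit false

namespace K215.BaseG2

open Function Module Groth.Agent.Sga3B

theorem exists_functional_ne {M : Type*} [AddCommGroup M] [Module.Free ℤ M] [Module.Finite ℤ M]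
    {κ : Type*} [Finite κ] (v : κ → M) : ∃ g : M →+ ℤ, ∀ k, v k ≠ 0 → g (v k) ≠ 0 := by
  classical
  let b := Module.Free.chooseBasis ℤ M
  obtain ⟨f, hf⟩ := Module.exists_dual_forall_apply_ne_zero (K := ℚ)
    (fun i : {k // v k ≠ 0} => BaseZ.φ b (v i))
    (fun i h => i.2 (BaseZ.φ_injective b (by rw [h, map_zero])))
  obtain ⟨d, hd⟩ := IsLocalization.exist_integer_multiples_of_finite (nonZeroDivisors ℤ)
    (fun k => f (Pi.single k (1 : ℚ)))
  choose n hn using hd
  refine ⟨((b.constr ℤ) n : M →ₗ[ℤ] ℤ).toAddMonoidHom, fun i hi h => hf ⟨i, hi⟩ ?_⟩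
  have hkey : ∀ x : M, (((b.constr ℤ) n x : ℤ) : ℚ) = (d : ℤ) • f (BaseZ.φ b x) := by
    intro x
    have h1 : BaseZ.φ b x = ∑ k, (b.repr x k : ℚ) • (Pi.single k (1 : ℚ) : _ → ℚ) := by
      ext k
      simp [BaseZ.φ_apply, Finset.sum_apply, Pi.single_apply]
    rw [h1, map_sum, Basis.constr_apply_fintype, Int.cast_sum, Finset.smul_sum]
    refine Finset.sum_congr rfl fun k _ => ?_
    have h2 := hn k
    simp only [eq_intCast] at h2
    rw [smul_eq_mul, Int.cast_mul, h2, map_smul, smul_eq_mul]
    simp only [Basis.equivFun_apply, zsmul_eq_mul]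
    ring
  have h3 := hkey (v i)
  change (b.constr ℤ) n (v i) = 0 at h
  rw [h] at h3
  simp only [Int.cast_zero, zsmul_eq_mul] at h3
  exact (mul_eq_zero.mp h3.symm).resolve_left (by exact_mod_cast nonZeroDivisors.coe_ne_zero d)

variable {ι M N : Type*} [Finite ι] [AddCommGroup M] [AddCommGroup N] (P : RootPairing ι ℤ M N)

omit [Finite ι] in
/-- a root with minimal positive value is simple -/
theorem mem_support_of_apply_eq_one (Δ : P.Base) (f : M →+ ℤ)
    (h : ∀ i, Δ.IsPos i ↔ 0 < f (P.root i)) {a : ι} (ha : f (P.root a) = 1) : a ∈ Δ.support := by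
  classical
  obtain ⟨c, -, hpos, hsum⟩ := Δ.exists_root_eq_sum_int a
  have hf : ∀ j ∈ Δ.support, 0 < f (P.root j) := fun j hj => (h j).mp (Δ.isPos_of_mem_support hj)
  have h1 : (1 : ℤ) = ∑ j ∈ Δ.support, c j * f (P.root j) := by
    rw [← ha]
    conv_lhs => rw [hsum]
    rw [map_sum]
    simp
  have hc : ∀ j, 0 ≤ c j := by
    rcases hpos with hp | hp
    · exact fun j => hp.le j
    · exfalso
      have : ∑ j ∈ Δ.support, c j * f (P.root j) ≤ 0 := Finset.sum_nonpos fun j hj =>
        mul_nonpos_of_nonpos_of_nonneg (hp.le j) (hf j hj).le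
      omega
  obtain ⟨j, hj, hj0⟩ : ∃ j ∈ Δ.support, c j ≠ 0 := by
    by_contra hne
    push Not at hne
    rw [Finset.sum_eq_zero (fun j hj => by rw [hne j hj, zero_mul])] at h1
    exact one_ne_zero h1
  have hcj : 1 ≤ c j := by
    have := hc j
    omega
  rw [← Finset.add_sum_erase _ _ hj] at h1
  have h2 : 0 ≤ ∑ i ∈ Δ.support.erase j, c i * f (P.root i) := Finset.sum_nonneg fun i hi =>
    mul_nonneg (hc i) (hf i (Finset.mem_of_mem_erase hi)).le
  have h3 := hf j hj
  have h4 : c j = 1 := by nlinarith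
  have h5 : ∑ i ∈ Δ.support.erase j, c i * f (P.root i) = 0 := by nlinarith
  have h6 : ∀ i ∈ Δ.support.erase j, c i = 0 := by
    intro i hi
    have h7 := (Finset.sum_eq_zero_iff_of_nonneg (fun i hi =>
      mul_nonneg (hc i) (hf i (Finset.mem_of_mem_erase hi)).le)).mp h5 i hi
    have h8 := hf i (Finset.mem_of_mem_erase hi)
    exact (mul_eq_zero.mp h7).resolve_right h8.ne'
  have h7 : P.root a = P.root j := by
    rw [hsum, ← Finset.add_sum_erase _ _ hj, h4, one_smul,
      Finset.sum_eq_zero (fun i hi => by rw [h6 i hi, zero_smul]), add_zero]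
  rw [P.root.injective h7]
  exact hj

variable [Module.Finite ℤ M] [P.IsReduced]

/-- **Bases containing a `G₂`-pair.** -/
theorem exists_base_of_g2 {a b : ι} (hba : P.pairing b a = -3) (hab : P.pairing a b = -1) :
    ∃ Δ : P.Base, a ∈ Δ.support ∧ b ∈ Δ.support := by
  classical
  have : IsReflexive ℤ M := .of_isPerfPair P.toLinearMap
  let _ : Fintype ι := Fintype.ofFinite ι
  -- the coordinates
  let m : M →ₗ[ℤ] ℤ := P.coroot' a
  let n : M →ₗ[ℤ] ℤ := P.coroot' b
  let p : M →ₗ[ℤ] ℤ := 2 • m + 3 • n
  let q : M →ₗ[ℤ] ℤ := m + 2 • n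
  have ma : m (P.root a) = 2 := by
    change P.coroot' a (P.root a) = 2
    rw [P.root_coroot'_eq_pairing, P.pairing_same]
  have mb : m (P.root b) = -3 := by
    change P.coroot' a (P.root b) = -3
    rw [P.root_coroot'_eq_pairing, hba]
  have na : n (P.root a) = -1 := by
    change P.coroot' b (P.root a) = -1
    rw [P.root_coroot'_eq_pairing, hab]
  have nb : n (P.root b) = 2 := by
    change P.coroot' b (P.root b) = 2
    rw [P.root_coroot'_eq_pairing, P.pairing_same]
  have hp : ∀ x, p x = 2 * m x + 3 * n x := fun x => by simp [p]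
  have hq : ∀ x, q x = m x + 2 * n x := fun x => by simp [q]
  let r : M →ₗ[ℤ] M := LinearMap.id - p.smulRight (P.root a) - q.smulRight (P.root b)
  have hr : ∀ x, r x = x - p x • P.root a - q x • P.root b := fun x => rfl
  have ra : r (P.root a) = 0 := by
    rw [hr, hp, hq, ma, na]; module
  have rb : r (P.root b) = 0 := by
    rw [hr, hp, hq, mb, nb]; module
  obtain ⟨g, hg⟩ := exists_functional_ne (fun i => r (P.root i))
  let N₀ : ℤ := 1 + ∑ i, |p (P.root i) + q (P.root i)|
  have hN : ∀ i, |p (P.root i) + q (P.root i)| < N₀ := by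
    intro i
    have := Finset.single_le_sum (f := fun i => |p (P.root i) + q (P.root i)|)
      (fun i _ => abs_nonneg _) (Finset.mem_univ i)
    change _ < 1 + ∑ i, |p (P.root i) + q (P.root i)|
    exact lt_of_le_of_lt this (by omega)
  let f : M →+ ℤ := N₀ • (g.comp r.toAddMonoidHom) + (p + q).toAddMonoidHom
  have hf : ∀ x, f x = N₀ * g (r x) + (p x + q x) := fun x => rfl
  have fa : f (P.root a) = 1 := by
    rw [hf, ra, map_zero, hp, hq, ma, na]; norm_num
  have fb : f (P.root b) = 1 := by
    rw [hf, rb, map_zero, hp, hq, mb, nb]; norm_num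
  have hf0 : ∀ i, f (P.root i) ≠ 0 := by
    intro i h0
    rw [hf] at h0
    by_cases hri : r (P.root i) = 0
    · rw [hri, map_zero, mul_zero, zero_add] at h0
      -- `root i = p (a - b)`
      rw [hr] at hri
      have h1 : P.root i = p (P.root i) • P.root a + q (P.root i) • P.root b := by
        rw [sub_sub, sub_eq_zero] at hri
        exact hri
      have h2 := congrArg m h1
      rw [map_add, map_smul, map_smul, ma, mb, smul_eq_mul, smul_eq_mul] at h2
      have h3 : m (P.root i) = 5 * p (P.root i) := by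
        rw [h2]; linear_combination -3 * h0
      have h4 : m (P.root i) = P.pairing i a := P.root_coroot'_eq_pairing a i
      have h5 : |P.pairing i a| ≤ 4 := by
        have h6 := P.pairingIn_pairingIn_mem_set_of_isCrystal_of_isRed i a
        have h7 : ∀ i j, P.pairingIn ℤ i j = P.pairing i j := fun i j => by
          have := P.algebraMap_pairingIn ℤ i j
          simpa using this
        simp only [h7, Set.mem_insert_iff, Set.mem_singleton_iff, Prod.mk.injEq] at h6
        rw [abs_le]
        omega
      have h6 : p (P.root i) = 0 := by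
        rw [h4] at h3
        rw [h3, abs_le] at h5
        omega
      have h7 : q (P.root i) = 0 := by omega
      rw [h6, h7, zero_smul, zero_smul, add_zero] at h1
      exact P.ne_zero i h1
    · have h1 := hg i hri
      have h2 := hN i
      have h3 : 1 ≤ |g (r (P.root i))| := Int.one_le_abs h1
      have h4 : |N₀ * g (r (P.root i))| = |p (P.root i) + q (P.root i)| := by
        rw [show N₀ * g (r (P.root i)) = -(p (P.root i) + q (P.root i)) by omega, abs_neg]
      rw [abs_mul] at h4
      have h5 : 0 < N₀ := lt_of_le_of_lt (abs_nonneg _) h2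
      rw [abs_of_pos h5] at h4
      nlinarith
  obtain ⟨Δ, hΔ⟩ := BaseZ.exists_base_isPos P f hf0
  exact ⟨Δ, mem_support_of_apply_eq_one P Δ f hΔ fa, mem_support_of_apply_eq_one P Δ f hΔ fb⟩

end K215.BaseG2
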