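import Groth.Agent.Sga3B.RG.BrHc2
import Groth.Agent.Sga3B.AlgBc2

/-!
# Conjugacy of maximal tori of reductive groups over algebraically closed fields, in the form used as the
hypothesis `hconj` of S2991, S3007, ...
-/

set_option autoImplicit false
universe u
open CategoryTheory MonoidalCategory CartesianMonoidalCategory MonObj GrpObj AlgebraicGeometry

namespace K215

theorem hconj (K : Type u) [Field K] [IsAlgClosed K] (L : Over (Spec (CommRingCat.of K)))
    [GrpObj L] (hL : Red.IsReductive L) (T T' : Over (Spec (CommRingCat.of K))) [GrpObj T] [GrpObj T']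
    (i : T ⟶ L) (i' : T' ⟶ L) (hi : Red.IsMaximalTorus i) (hi' : Red.IsMaximalTorus i') :
    ∃ g : 𝟙_ (Over (Spec (CommRingCat.of K))) ⟶ L, ∀ (X : Over (Spec (CommRingCat.of K))) (t : X ⟶ T),
      ∃ t' : X ⟶ T', (toUnit X ≫ g) * (t ≫ i) * (toUnit X ≫ g)⁻¹ = t' ≫ i' := by
  obtain ⟨h1, h2, h3, -⟩ := Groth.Agent.Sga3B.AlgBc.isReductive_iff.mp hL
  obtain ⟨γ, f, -, hf⟩ := Groth.Agent.Sga3B.RG.BrHc2.exists_conj_iso L i i' hi hi'
  refine ⟨γ, fun X t => ⟨t ≫ f.hom, ?_⟩⟩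
  rw [Category.assoc, hf, Groth.Agent.Sga3B.RG.BrHc.comp_conjHom]

end K215
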