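import Mathlib.LinearAlgebra.RootSystem.Base
import Mathlib.LinearAlgebra.RootSystem.Finite.Nondegenerate
import Mathlib.LinearAlgebra.Matrix.ToLinearEquiv
import Mathlib.LinearAlgebra.Matrix.Adjugate

/-!
# A Coxeter element of a semisimple root datum has no fixed vector

* `fix_of_prod`: a product of reflections in linearly independent vectors fixes `x` only if every
  reflection does.
* `fixed_eq_zero`: in a root datum whose roots have finite index a vector fixed by the simple
  reflections is zero.
* `exists_adj`: an injective endomorphism of `ℤ^r` divides a nonzero integer.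
* `exists_cox`: the package for the Coxeter element.
-/

set_option autoImplicit false

namespace K215.Cox

open Function Module

section Abstract

variable {κ M : Type*} [AddCommGroup M]

theorem sub_prod_mem (v : κ → M) (s : κ → (M ≃ₗ[ℤ] M))
    (hs : ∀ k x, x - s k x ∈ Submodule.span ℤ {v k}) (L : List κ) (x : M) :
    x - (L.map s).prod x ∈ Submodule.span ℤ (v '' {k | k ∈ L}) := by
  induction L with
  | nil => simp
  | cons a L ih =>
    have h1 : x - (((a :: L).map s).prod x) =
        (x - (L.map s).prod x) + ((L.map s).prod x - s a ((L.map s).prod x)) := by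
      rw [List.map_cons, List.prod_cons]
      change x - s a _ = _
      abel
    rw [h1]
    refine add_mem (Submodule.span_mono (Set.image_mono fun k hk => ?_) ih)
      (Submodule.span_mono ?_ (hs a _))
    · exact List.mem_cons_of_mem _ hk
    · rintro _ rfl
      exact ⟨a, List.mem_cons_self, rfl⟩

theorem fix_of_prod (v : κ → M) (hv : LinearIndependent ℤ v) (s : κ → (M ≃ₗ[ℤ] M))
    (hs : ∀ k x, x - s k x ∈ Submodule.span ℤ {v k}) (h2 : ∀ k x, s k (s k x) = x)
    (L : List κ) (hL : L.Nodup) (x : M) (hx : (L.map s).prod x = x) :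
    ∀ k ∈ L, s k x = x := by
  induction L with
  | nil => simp
  | cons a L ih =>
    rw [List.nodup_cons] at hL
    rw [List.map_cons, List.prod_cons] at hx
    have h3 : (L.map s).prod x = s a x := by
      conv_rhs => rw [← hx]
      exact (h2 a _).symm
    have h4 := sub_prod_mem v s hs L x
    rw [h3] at h4
    have h5 := hs a x
    have hd : Disjoint {k | k ∈ L} {a} := by
      rw [Set.disjoint_singleton_right]
      exact hL.1
    have h6 := hv.disjoint_span_image hd
    rw [Set.image_singleton] at h6
    have h7 : x - s a x = 0 := Submodule.disjoint_def.mp h6 _ h4 h5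
    have h8 : s a x = x := (sub_eq_zero.mp h7).symm
    intro k hk
    rcases List.mem_cons.mp hk with rfl | hk
    · exact h8
    · exact ih hL.2 (h3.trans h8) k hk

/-- An injective endomorphism of a free module of finite rank over `ℤ` divides a nonzero integer. -/
theorem exists_adj [Module.Free ℤ M] [Module.Finite ℤ M] (f : M →ₗ[ℤ] M) (hf : Injective f) :
    ∃ (e : ℕ) (g : M →ₗ[ℤ] M), e ≠ 0 ∧ (∀ x, f (g x) = e • x) ∧ ∀ x, g (f x) = e • x := by
  classical
  let b := Module.Free.chooseBasis ℤ M
  let A := LinearMap.toMatrix b b f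
  have hA : A.det ≠ 0 := by
    intro h0
    obtain ⟨v, hv, hv0⟩ := Matrix.exists_mulVec_eq_zero_iff.mpr h0
    apply hv
    have h1 : f (b.equivFun.symm v) = 0 := by
      apply b.equivFun.injective
      rw [map_zero]
      have h2 := LinearMap.toMatrix_mulVec_repr b b f (b.equivFun.symm v)
      have h3 : (b.repr (b.equivFun.symm v) : _ → ℤ) = v := by
        have := b.equivFun.apply_symm_apply v
        exact this
      rw [h3] at h2
      exact h2.symm.trans hv0
    have h4 : b.equivFun.symm v = 0 := hf (by rw [h1, map_zero])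
    exact (LinearEquiv.map_eq_zero_iff _).mp h4
  let g := Matrix.toLin b b A.adjugate
  have hf' : f = Matrix.toLin b b A := (Matrix.toLin_toMatrix b b f).symm
  have hfg : ∀ x, f (g x) = A.det • x := by
    intro x
    have : f ∘ₗ g = A.det • LinearMap.id := by
      rw [hf', ← Matrix.toLin_mul, Matrix.mul_adjugate, map_smul, Matrix.toLin_one]
    exact congr($this x)
  have hgf : ∀ x, g (f x) = A.det • x := by
    intro x
    have : g ∘ₗ f = A.det • LinearMap.id := by
      rw [hf', ← Matrix.toLin_mul, Matrix.adjugate_mul, map_smul, Matrix.toLin_one]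
    exact congr($this x)
  refine ⟨(A.det * A.det).natAbs, A.det • g, ?_, fun x => ?_, fun x => ?_⟩
  · rw [Int.natAbs_ne_zero]
    exact mul_ne_zero hA hA
  · have h1 : (((A.det * A.det).natAbs : ℤ)) = A.det * A.det :=
      Int.natAbs_of_nonneg (mul_self_nonneg _)
    rw [← natCast_zsmul, h1, LinearMap.smul_apply, map_smul, hfg, smul_smul]
  · have h1 : (((A.det * A.det).natAbs : ℤ)) = A.det * A.det :=
      Int.natAbs_of_nonneg (mul_self_nonneg _)
    rw [← natCast_zsmul, h1, LinearMap.smul_apply, hgf, smul_smul]

end Abstract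

section Root

variable {ι M N : Type*} [Finite ι] [AddCommGroup M] [AddCommGroup N]
  (P : RootPairing ι ℤ M N)

theorem eq_zero_of_forall (x : M) (hx : x ∈ Submodule.span ℤ (Set.range P.root))
    (h : ∀ i, P.toLinearMap x (P.coroot i) = 0) : x = 0 := by
  have := Fintype.ofFinite ι
  have h1 := P.rootForm_restrict_nondegenerate_of_ordered
  have h2 : ∀ y, P.RootForm x y = 0 := by
    intro y
    rw [RootPairing.rootForm_apply_apply]
    refine Finset.sum_eq_zero fun i _ => ?_
    have h3 : P.coroot' i x = 0 := h i
    rw [h3, zero_mul]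
  have h3 := h1.1 ⟨x, hx⟩ (fun y => h2 y)
  exact congrArg Subtype.val h3

theorem fixed_eq_zero (b : P.Base) [Module.Free ℤ M]
    {d : ℕ} (hd : d ≠ 0) (hspan : ∀ m : M, d • m ∈ Submodule.span ℤ (Set.range P.root))
    (x : M) (hx : ∀ k ∈ b.support, P.reflection k x = x) : x = 0 := by
  have h0 : ∀ k ∈ b.support, P.toLinearMap x (P.coroot k) = 0 := by
    intro k hk
    have h1 := hx k hk
    rw [RootPairing.reflection_apply, sub_eq_self] at h1
    exact (smul_eq_zero.mp h1).resolve_right (P.ne_zero k)
  have h1 : ∀ i, P.toLinearMap x (P.coroot i) = 0 := by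
    intro i
    have h2 : P.coroot i ∈ Submodule.span ℤ (P.coroot '' b.support) := by
      rw [b.span_int_coroot_support]
      exact Submodule.subset_span ⟨i, rfl⟩
    have h3 : Submodule.span ℤ (P.coroot '' b.support) ≤ LinearMap.ker (P.toLinearMap x) := by
      rw [Submodule.span_le]
      rintro _ ⟨k, hk, rfl⟩
      exact h0 k hk
    exact h3 h2
  have h2 : d • x = 0 := eq_zero_of_forall P _ (hspan x) fun i => by
    rw [map_nsmul, LinearMap.smul_apply, h1, smul_zero]
  rw [← natCast_zsmul] at h2
  exact (smul_eq_zero.mp h2).resolve_left (Nat.cast_ne_zero.mpr hd)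

omit [Finite ι] in
/-- the product of the permutations induces the product of the reflections -/
theorem root_prod (L : List ι) (j : ι) :
    P.root ((L.map P.reflectionPerm).prod j) = (L.map fun a => P.reflection a).prod (P.root j) := by
  induction L with
  | nil => rfl
  | cons a L ih =>
    rw [List.map_cons, List.map_cons, List.prod_cons, List.prod_cons]
    change P.root (P.reflectionPerm a _) = P.reflection a _
    rw [P.root_reflectionPerm]
    exact congrArg (P.reflection a) ih

theorem exists_pow_eq_one [Module.Free ℤ M]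
    {d : ℕ} (hd : d ≠ 0) (hspan : ∀ m : M, d • m ∈ Submodule.span ℤ (Set.range P.root))
    (L : List ι) : ∃ k : ℕ, k ≠ 0 ∧ ((L.map fun a => P.reflection a).prod) ^ k = 1 := by
  let p := (L.map P.reflectionPerm).prod
  let w := (L.map fun a => P.reflection a).prod
  have h1 : ∀ (k : ℕ) (j : ι), P.root ((p ^ k) j) = (w ^ k) (P.root j) := by
    intro k
    induction k with
    | zero => intro j; rfl
    | succ k ih =>
      intro j
      rw [pow_succ', pow_succ']
      change P.root (p _) = w _
      rw [root_prod P L]
      exact congrArg w (ih j)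
  refine ⟨orderOf p, (isOfFinOrder_of_finite p).orderOf_pos.ne', ?_⟩
  have h2 : ∀ j, (w ^ orderOf p) (P.root j) = P.root j := by
    intro j
    rw [← h1, pow_orderOf_eq_one]
    rfl
  have h3 : ∀ m ∈ Submodule.span ℤ (Set.range P.root), (w ^ orderOf p) m = m := by
    intro m hm
    induction hm using Submodule.span_induction with
    | mem x hx => obtain ⟨j, rfl⟩ := hx; exact h2 j
    | zero => exact map_zero _
    | add x y _ _ hx hy => rw [map_add, hx, hy]
    | smul a x _ hx => rw [map_smul, hx]
  refine LinearEquiv.ext fun m => ?_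
  have h4 := h3 _ (hspan m)
  rw [map_nsmul, ← natCast_zsmul, ← natCast_zsmul] at h4
  exact smul_right_injective M (Nat.cast_ne_zero.mpr hd : (d : ℤ) ≠ 0) h4

/-- **The Coxeter element.** -/
theorem exists_cox (b : P.Base) [Module.Free ℤ M] [Module.Finite ℤ M]
    {d : ℕ} (hd : d ≠ 0) (hspan : ∀ m : M, d • m ∈ Submodule.span ℤ (Set.range P.root)) :
    ∃ (L : List ι) (e k : ℕ) (g : M →ₗ[ℤ] M), e ≠ 0 ∧ k ≠ 0 ∧
      ((L.map fun a => P.reflection a).prod) ^ k = 1 ∧
      (∀ x, (L.map fun a => P.reflection a).prod (g x) - g x = e • x) ∧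
      ∀ x, g ((L.map fun a => P.reflection a).prod x - x) = e • x := by
  classical
  let L₀ : List b.support := (Finset.univ : Finset b.support).toList
  let L : List ι := L₀.map Subtype.val
  obtain ⟨k, hk, hw⟩ := exists_pow_eq_one P hd hspan L
  have hL : (L.map fun a => P.reflection a) = L₀.map (fun a : b.support => P.reflection a) := by
    simp [L]
  let w := (L.map fun a => P.reflection a).prod
  let f : M →ₗ[ℤ] M := (w : M →ₗ[ℤ] M) - LinearMap.id
  have hinj : Injective f := by
    rw [injective_iff_map_eq_zero]
    intro x hx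
    have h1 : w x = x := sub_eq_zero.mp hx
    have h2 : (L₀.map (fun a : b.support => P.reflection a)).prod x = x := by
      rw [← hL]; exact h1
    have h3 := fix_of_prod (fun a : b.support => P.root a) b.linearIndepOn_root
      (fun a => P.reflection a) (fun a y => by
        rw [RootPairing.reflection_apply, sub_sub_cancel]
        exact Submodule.smul_mem _ _ (Submodule.mem_span_singleton_self _))
      (fun a y => P.reflection_same _ _) L₀ (Finset.nodup_toList _) x h2
    exact fixed_eq_zero P b hd hspan x fun a ha => h3 ⟨a, ha⟩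
      (Finset.mem_toList.mpr (Finset.mem_univ _))
  obtain ⟨e, g, he, h1, h2⟩ := exists_adj f hinj
  exact ⟨L, e, k, g, he, hk, hw, h1, h2⟩

end Root

end K215.Cox
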