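import Mathlib.LinearAlgebra.Basis.Defs
import Mathlib.LinearAlgebra.FreeModule.Finite.Basic
import Mathlib.GroupTheory.OrderOfElement
import Mathlib.FieldTheory.IsAlgClosed.Basic

/-!
# Commutators of the Coxeter element with a torus (abstract part)

* `exists_root`: roots of characters with values in a divisible group.
* `core`: if `w - 1` divides the integer `e` then each torsion element of the torus is a commutator
  `n t n⁻¹ t⁻¹` with `n` and `t` of finite order.
-/

set_option autoImplicit false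

namespace K215.CoxCore

open Function Module

variable {M E : Type*} [AddCommGroup M] [CommMonoid E]

theorem exists_root [Module.Free ℤ M]
    (hE : ∀ e : ℕ, e ≠ 0 → ∀ x : Eˣ, ∃ y : Eˣ, y ^ e = x) (e : ℕ) (he : e ≠ 0)
    (χ : Multiplicative M →* E) : ∃ ψ : Multiplicative M →* E, ψ ^ e = χ := by
  classical
  let b := Module.Free.chooseBasis ℤ M
  let χ' : Multiplicative M →* Eˣ := χ.toHomUnits
  choose y hy using fun i => hE e he (χ' (Multiplicative.ofAdd (b i)))
  let f : M →ₗ[ℤ] Additive Eˣ := b.constr ℤ (fun i => Additive.ofMul (y i))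
  let f₀ : M →ₗ[ℤ] Additive Eˣ := (MonoidHom.toAdditiveRight χ').toIntLinearMap
  have h1 : e • f = f₀ := by
    apply b.ext
    intro i
    rw [LinearMap.smul_apply, Basis.constr_basis]
    exact congrArg Additive.ofMul (hy i)
  refine ⟨(Units.coeHom E).comp (AddMonoidHom.toMultiplicativeLeft f.toAddMonoidHom), ?_⟩
  refine MonoidHom.ext fun m => ?_
  have h2 := congr(((Additive.toMul ($h1 m.toAdd) : Eˣ) : E))
  exact (Units.val_pow_eq_pow_val _ _).symm.trans h2

variable {𝒢 : Type*} [Group 𝒢]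

theorem core (τ : (Multiplicative M →* E) →* 𝒢) (hτ : Injective τ)
    (hdiv : ∀ (e : ℕ), e ≠ 0 → ∀ χ : Multiplicative M →* E, ∃ ψ : Multiplicative M →* E, ψ ^ e = χ)
    (w : M →+ M) (n : 𝒢)
    (hn : ∀ χ, n * τ χ * n⁻¹ = τ (χ.comp (AddMonoidHom.toMultiplicative w)))
    (k : ℕ) (hk : k ≠ 0) (hkn : ∃ χ, n ^ k = τ χ)
    (e : ℕ) (he : e ≠ 0) (g : M →+ M) (h1 : ∀ x, w (g x) - g x = e • x)
    (h2 : ∀ x, g (w x - x) = e • x)
    (χc : Multiplicative M →* E) (d : ℕ) (hd : d ≠ 0) (hcd : χc ^ d = 1) :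
    ∃ a b : 𝒢, IsOfFinOrder a ∧ IsOfFinOrder b ∧ τ χc = a * b * a⁻¹ * b⁻¹ := by
  obtain ⟨s, hs⟩ := hdiv e he χc
  let t : Multiplicative M →* E := s.comp (AddMonoidHom.toMultiplicative g)
  have hs' : ∀ m : M, s (Multiplicative.ofAdd (e • m)) = χc (Multiplicative.ofAdd m) := by
    intro m
    rw [ofAdd_nsmul, map_pow, ← hs]
    rfl
  have ht : t.comp (AddMonoidHom.toMultiplicative w) = χc * t := by
    refine MonoidHom.ext fun m => ?_
    change s (Multiplicative.ofAdd (g (w m.toAdd))) = χc m * s (Multiplicative.ofAdd (g m.toAdd))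
    have h3 : g (w m.toAdd) = e • m.toAdd + g m.toAdd := by
      rw [← h2, map_sub, sub_add_cancel]
    rw [h3, ofAdd_add, map_mul, hs']
    rfl
  have htd : t ^ (e * d) = 1 := by
    have h3 : s ^ (e * d) = 1 := by rw [pow_mul, hs, hcd]
    refine MonoidHom.ext fun m => ?_
    change (s (Multiplicative.ofAdd (g m.toAdd))) ^ (e * d) = 1
    exact congr($h3 (Multiplicative.ofAdd (g m.toAdd)))
  refine ⟨n, τ t, ?_, ?_, ?_⟩
  · obtain ⟨χ, hχ⟩ := hkn
    have h3 : χ.comp (AddMonoidHom.toMultiplicative w) = χ := by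
      apply hτ
      rw [← hn, ← hχ, ← pow_succ', pow_succ, mul_assoc, mul_inv_cancel, mul_one]
    have h4 : χ ^ e = 1 := by
      refine MonoidHom.ext fun m => ?_
      have h5 : χ (Multiplicative.ofAdd (w (g m.toAdd))) = χ (Multiplicative.ofAdd (g m.toAdd)) :=
        congr($h3 (Multiplicative.ofAdd (g m.toAdd)))
      have h6 : w (g m.toAdd) = e • m.toAdd + g m.toAdd := by
        rw [← h1, sub_add_cancel]
      rw [h6, ofAdd_add, map_mul, ofAdd_nsmul, map_pow] at h5
      have h7 : IsUnit (χ (Multiplicative.ofAdd (g m.toAdd))) := (Group.isUnit _).map χ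
      exact h7.mul_eq_right.mp h5
    refine isOfFinOrder_iff_pow_eq_one.mpr ⟨k * e, Nat.pos_of_ne_zero (mul_ne_zero hk he), ?_⟩
    rw [pow_mul, hχ, ← map_pow, h4, map_one]
  · refine isOfFinOrder_iff_pow_eq_one.mpr ⟨e * d, Nat.pos_of_ne_zero (mul_ne_zero he hd), ?_⟩
    rw [← map_pow, htd, map_one]
  · rw [hn, ht, map_mul, mul_inv_cancel_right]

end K215.CoxCore
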