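import Groth.Agent.Red.K215.Cox
import Groth.Agent.Red.K215.CoxCore
import Groth.Agent.Sga3B.RG.BrHc2
import Groth.Agent.Sga3B.AlgBc2
import Groth.Agent.Sga3B.BaseZ
import Groth.Agent.Sga3B.DSPts
import Groth.Prelude.Def_Red2

/-!
# Central elements of a split semisimple group over an algebraically closed field are commutators
of elements of finite order
-/

set_option autoImplicit false
universe u
open CategoryTheory MonoidalCategory CartesianMonoidalCategory MonObj GrpObj AlgebraicGeometry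

namespace K215.CoxPts

open Groth.Agent.Sga3B Groth.Agent.Sga3B.DSPts

noncomputable section

section Acts

variable {S : Scheme.{u}} {G : Over S} [GrpObj G] (D : Red.SplitRed G)

/-- The point of the torus attached to a character. -/
def tt (X : Over S) (χ : Multiplicative D.M →* Γ(X.left, ⊤)) : X ⟶ G :=
  dsEquiv X D.M χ ≫ D.split.inv.hom.hom ≫ D.i

/-- The torus point as a homomorphism. -/
def ttHom (X : Over S) : (Multiplicative D.M →* Γ(X.left, ⊤)) →* (X ⟶ G) where
  toFun := tt D X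
  map_one' := by
    have := D.maximalTorus.1
    change dsEquiv X D.M 1 ≫ D.split.inv.hom.hom ≫ D.i = 1
    rw [map_one]
    exact MonObj.one_comp (D.split.inv.hom.hom ≫ D.i)
  map_mul' χ ψ := by
    have := D.maximalTorus.1
    change dsEquiv X D.M (χ * ψ) ≫ D.split.inv.hom.hom ≫ D.i = _
    rw [map_mul]
    exact MonObj.mul_comp _ _ (D.split.inv.hom.hom ≫ D.i)

theorem ttHom_injective (X : Over S) : Function.Injective (ttHom D X) := by
  intro χ ψ h
  have := D.maximalTorus.2.1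
  have h1 : (dsEquiv X D.M χ ≫ D.split.inv.hom.hom) ≫ D.i =
      (dsEquiv X D.M ψ ≫ D.split.inv.hom.hom) ≫ D.i := by
    rw [Category.assoc, Category.assoc]
    exact h
  have h2 := (cancel_mono D.i).mp h1
  have h3 : D.split.inv.hom.hom ≫ D.split.hom.hom.hom = 𝟙 _ := by
    have := congr(($(D.split.inv_hom_id)).hom.hom)
    exact this
  have h4 := congr($h2 ≫ D.split.hom.hom.hom)
  rw [Category.assoc, Category.assoc, h3, Category.comp_id, Category.comp_id] at h4
  exact (dsEquiv X D.M).injective h4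

theorem tt_dsChar {X : Over S} (t : X ⟶ D.T) :
    tt D X (dsChar (t ≫ D.split.hom.hom.hom)) = t ≫ D.i := by
  have h3 : D.split.hom.hom.hom ≫ D.split.inv.hom.hom = 𝟙 _ := by
    have := congr(($(D.split.hom_inv_id)).hom.hom)
    exact this
  rw [tt, dsEquiv_dsChar, Category.assoc, reassoc_of% h3]

/-- `n` normalises the torus and acts on the characters through `φ`. -/
def Acts (n : 𝟙_ (Over S) ⟶ G) (φ : D.M ≃ₗ[ℤ] D.M) : Prop :=
  ∀ (X : Over S) (χ : Multiplicative D.M →* Γ(X.left, ⊤)),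
    (toUnit X ≫ n) * tt D X χ * (toUnit X ≫ n)⁻¹ =
      tt D X (χ.comp (AddMonoidHom.toMultiplicative (φ : D.M →+ D.M)))

variable {D}

theorem Acts.one : Acts D 1 1 := by
  intro X χ
  rw [MonObj.comp_one, _root_.one_mul, _root_.inv_one, _root_.mul_one]
  rfl

theorem Acts.mul {n n' : 𝟙_ (Over S) ⟶ G} {φ φ' : D.M ≃ₗ[ℤ] D.M} (h : Acts D n φ)
    (h' : Acts D n' φ') : Acts D (n' * n) (φ * φ') := by
  intro X χ
  rw [MonObj.comp_mul, _root_.mul_inv_rev]
  have h1 : ((toUnit X ≫ n') * (toUnit X ≫ n)) * tt D X χ *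
      ((toUnit X ≫ n)⁻¹ * (toUnit X ≫ n')⁻¹) =
      (toUnit X ≫ n') * ((toUnit X ≫ n) * tt D X χ * (toUnit X ≫ n)⁻¹) * (toUnit X ≫ n')⁻¹ := by
    simp only [_root_.mul_assoc]
  rw [h1, h, h']
  rfl

theorem Acts.pow {n : 𝟙_ (Over S) ⟶ G} {φ : D.M ≃ₗ[ℤ] D.M} (h : Acts D n φ) (k : ℕ) :
    Acts D (n ^ k) (φ ^ k) := by
  induction k with
  | zero => exact Acts.one
  | succ k ih =>
    rw [pow_succ, pow_succ']
    exact h.mul ih

variable (D)

theorem exists_acts_reflection (a : D.idx) : ∃ n, Acts D n (D.P.reflection a) := by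
  obtain ⟨n, hn⟩ := D.refl a
  refine ⟨n, fun X χ => ?_⟩
  have h1 := hn X (dsEquiv X D.M χ ≫ D.split.inv.hom.hom)
  have h3 : D.split.inv.hom.hom ≫ D.split.hom.hom.hom = 𝟙 _ := by
    have := congr(($(D.split.inv_hom_id)).hom.hom)
    exact this
  have h4 : (dsEquiv X D.M χ ≫ D.split.inv.hom.hom) ≫ D.split.hom.hom.hom ≫
      Red.DSmap S (D.P.reflection a).toLinearMap.toAddMonoidHom ≫ D.split.inv.hom.hom ≫ D.i =
      tt D X (χ.comp (AddMonoidHom.toMultiplicative (D.P.reflection a : D.M →+ D.M))) := by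
    rw [Category.assoc, reassoc_of% h3, ← Category.assoc (dsEquiv X D.M χ) (Red.DSmap S _),
      dsEquiv_DSmap]
    rfl
  rw [h4, Category.assoc] at h1
  exact h1

theorem exists_acts (L : List D.idx) :
    ∃ n, Acts D n (L.map fun a => D.P.reflection a).prod := by
  induction L with
  | nil => exact ⟨1, Acts.one⟩
  | cons a L ih =>
    obtain ⟨n', h'⟩ := ih
    obtain ⟨n, h⟩ := exists_acts_reflection D a
    rw [List.map_cons, List.prod_cons]
    exact ⟨n' * n, h.mul h'⟩

end Acts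

section Field

variable {K : Type u} [Field K] [IsAlgClosed K]

theorem exists_unit_root {E : Type u} [CommRing E] (ψ : E ≃+* K) (e : ℕ) (he : e ≠ 0) (x : Eˣ) :
    ∃ y : Eˣ, y ^ e = x := by
  let x' : Kˣ := Units.mapEquiv ψ.toMulEquiv x
  obtain ⟨z, hz⟩ := IsAlgClosed.exists_pow_nat_eq (x' : K) (Nat.pos_of_ne_zero he)
  have hz0 : z ≠ 0 := by
    rintro rfl
    rw [zero_pow he] at hz
    exact x'.ne_zero hz.symm
  let z' : Kˣ := Units.mk0 z hz0
  have h1 : z' ^ e = x' := Units.ext (by rw [Units.val_pow_eq_pow_val]; exact hz)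
  refine ⟨(Units.mapEquiv ψ.toMulEquiv).symm z', ?_⟩
  rw [← map_pow, h1]
  exact (Units.mapEquiv ψ.toMulEquiv).symm_apply_apply x

variable {G : Over (Spec (CommRingCat.of K))} [GrpObj G]

/-- central rational points are central -/
theorem central_of_points (hG : Red.IsReductiveOver K G)
    (c : 𝟙_ (Over (Spec (CommRingCat.of K))) ⟶ G)
    (hc : c ∈ Subgroup.center (𝟙_ (Over (Spec (CommRingCat.of K))) ⟶ G))
    (X' : Over (Spec (CommRingCat.of K))) (x : X' ⟶ 𝟙_ _) (h : X' ⟶ G) :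
    (x ≫ c) * h = h * (x ≫ c) := by
  have haff := hG.1
  have hsm := hG.2.1
  have : IsReduced G.left := Groth.Agent.Books.AlgPtsSmooth.isReduced_of_smooth G
  have hsep : IsSeparated G.hom := by
    have : IsAffineHom G.hom := inferInstance
    infer_instance
  have h1 : (toUnit G ≫ c) * 𝟙 G = 𝟙 G * (toUnit G ≫ c) := by
    refine RG.BrPts.hom_ext_of_points _ _ fun x => ?_
    have h2 : x ≫ toUnit G ≫ c = c := by
      rw [← Category.assoc, toUnit_unique (x ≫ toUnit G) (𝟙 _), Category.id_comp]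
    rw [MonObj.comp_mul, MonObj.comp_mul, h2, Category.comp_id]
    exact (Subgroup.mem_center_iff.mp hc x).symm
  have h2 := congr(h ≫ $h1)
  have h3 : h ≫ toUnit G ≫ c = x ≫ c := by
    rw [← Category.assoc, toUnit_unique (h ≫ toUnit G) x]
  rwa [MonObj.comp_mul, MonObj.comp_mul, h3, Category.comp_id] at h2

theorem main (hG : Red.IsReductiveOver K G) (D : Red.SplitRed G) (hred : D.P.IsReduced)
    {d : ℕ} (hd : d ≠ 0) (hspan : ∀ m : D.M, d • m ∈ Submodule.span ℤ (Set.range D.P.root))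
    (c : 𝟙_ (Over (Spec (CommRingCat.of K))) ⟶ G)
    (hc : ∃ t : 𝟙_ (Over (Spec (CommRingCat.of K))) ⟶ D.T, t ≫ D.i = c ∧
      ∀ a : D.idx, t ≫ D.split.hom.hom.hom ≫ Red.chi _ (D.P.root a) = 1) :
    ∃ a b : 𝟙_ (Over (Spec (CommRingCat.of K))) ⟶ G, IsOfFinOrder a ∧ IsOfFinOrder b ∧
      c = a * b * a⁻¹ * b⁻¹ := by
  obtain ⟨t, rfl, hroot⟩ := hc
  let I : Over (Spec (CommRingCat.of K)) := 𝟙_ _
  let E := Γ(I.left, ⊤)
  let χc : Multiplicative D.M →* E := dsChar (t ≫ D.split.hom.hom.hom)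
  have hχc : ttHom D I χc = t ≫ D.i := tt_dsChar D t
  -- the characters which are trivial on `c`
  have hroot' : ∀ a, χc (Multiplicative.ofAdd (D.P.root a)) = 1 := by
    intro a
    have h1 := hroot a
    have h2 : dsChar (t ≫ D.split.hom.hom.hom ≫ Red.chi _ (D.P.root a)) = 1 := by
      rw [h1]
      exact map_one (dsEquiv _ ℤ).symm
    rw [← Category.assoc, Red.chi, dsChar_DSmap] at h2
    have h3 := congr($h2 (Multiplicative.ofAdd 1))
    have h4 : (AddMonoidHom.toMultiplicative (zmultiplesHom D.M (D.P.root a)))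
        (Multiplicative.ofAdd (1 : ℤ)) = Multiplicative.ofAdd (D.P.root a) := by
      change Multiplicative.ofAdd ((1 : ℤ) • D.P.root a) = _
      rw [one_smul]
    rw [MonoidHom.comp_apply, h4] at h3
    exact h3
  have hcd : χc ^ d = 1 := by
    let χ' : Multiplicative D.M →* Eˣ := χc.toHomUnits
    let f₀ : D.M →ₗ[ℤ] Additive Eˣ := (MonoidHom.toAdditiveRight χ').toIntLinearMap
    have h1 : Submodule.span ℤ (Set.range D.P.root) ≤ LinearMap.ker f₀ := by
      rw [Submodule.span_le]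
      rintro _ ⟨a, rfl⟩
      exact Units.ext (hroot' a)
    refine MonoidHom.ext fun m => ?_
    have h2 : f₀ (d • m.toAdd) = 0 := h1 (hspan m.toAdd)
    have h3 : ((Additive.toMul (f₀ (d • m.toAdd)) : Eˣ) : E) = 1 := by rw [h2]; rfl
    have h4 : ((Additive.toMul (f₀ (d • m.toAdd)) : Eˣ) : E) = (χc m) ^ d := by
      change χc (Multiplicative.ofAdd (d • m.toAdd)) = _
      rw [ofAdd_nsmul, map_pow]
      rfl
    exact h4.symm.trans h3
  -- the Coxeter element
  obtain ⟨b⟩ := BaseZ.nonempty_base D.P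
  obtain ⟨L, e, k, g, he, hk, hwk, h1, h2⟩ := Cox.exists_cox D.P b hd hspan
  obtain ⟨n, hn⟩ := exists_acts D L
  let w := (L.map fun a => D.P.reflection a).prod
  have hnk : ∃ χ, n ^ k = ttHom D I χ := by
    have h3 : Acts D (n ^ k) 1 := by
      rw [← hwk]
      exact hn.pow k
    obtain ⟨t', ht'⟩ := RG.BrHc2.exists_factor G D.T D.i hG D.maximalTorus I (n ^ k)
      (fun X' x t' => by
        have h4 := h3 X' (dsChar (t' ≫ D.split.hom.hom.hom))
        have h5 : (toUnit X' ≫ (n ^ k)) = x ≫ (n ^ k) := by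
          rw [toUnit_unique (toUnit X') x]
        rw [h5, mul_inv_eq_iff_eq_mul] at h4
        have h6 : tt D X' (dsChar (t' ≫ D.split.hom.hom.hom)) = t' ≫ D.i := tt_dsChar D t'
        have h7 : (dsChar (t' ≫ D.split.hom.hom.hom)).comp
          (AddMonoidHom.toMultiplicative ((1 : D.M ≃ₗ[ℤ] D.M) : D.M →+ D.M)) =
            dsChar (t' ≫ D.split.hom.hom.hom) := rfl
        rw [h7, h6] at h4
        exact h4)
    exact ⟨dsChar (t' ≫ D.split.hom.hom.hom), ht'.trans (tt_dsChar D t').symm⟩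
  have hn' : ∀ χ, n * ttHom D I χ * n⁻¹ =
      ttHom D I (χ.comp (AddMonoidHom.toMultiplicative (w : D.M →+ D.M))) := by
    intro χ
    have h3 := hn I χ
    rw [toUnit_unique (toUnit I) (𝟙 _), Category.id_comp] at h3
    exact h3
  have hE := CoxCore.exists_root (M := D.M) (E := E)
    (exists_unit_root (Scheme.ΓSpecIso (CommRingCat.of K)).commRingCatIsoToRingEquiv)
  rw [← hχc]
  exact CoxCore.core (ttHom D I) (ttHom_injective D I) hE (w : D.M →+ D.M) n hn' k hk hnk e he
    (g : D.M →+ D.M) h1 h2 χc d hd hcd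

end Field

end

end K215.CoxPts
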