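import Groth.Agent.Red.K215.RankOnePts
import Groth.Agent.Sga3B.AffYoneda

/-!
# Conjugation of a root homomorphism by its Weyl element, over any base

`pp` a root homomorphism, `pm` a homomorphism with the rank one relation
`pp(x) pm(y) = pm(y/(1+xy)) α^*(1+xy) pp(x/(1+xy))` (no normality of `pm` is assumed). Then
`w pp(x) w⁻¹ = pm(-x)` for `w = pp(1) pm(-1) pp(1)`.
-/

set_option autoImplicit false
set_option linter.unusedSectionVars false
universe u
open CategoryTheory MonoidalCategory CartesianMonoidalCategory MonObj GrpObj AlgebraicGeometry Limits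

namespace K215.DualRoot

open Groth.Agent.Sga3B Groth.Agent.Sga3B.DSPts Groth.Agent.Sga3B.GaPts Groth.Agent.Sga3.H811.Pts
open K215.RankOne

variable {S : Scheme.{u}} {G T : Over S} [GrpObj G] [GrpObj T]

/-- A solution of `t² = x t + x` in a faithfully flat extension of an affine scheme. -/
theorem exists_sol (R : CommRingCat.{u}) (x : Γ(Spec R, ⊤)) :
    ∃ (D : CommRingCat.{u}) (f : Spec D ⟶ Spec R) (t : Γ(Spec D, ⊤)), Flat f ∧ Surjective f ∧
      t ^ 2 = f.appTop x * t + f.appTop x := by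
  rcases subsingleton_or_nontrivial R with hR | hR
  · refine ⟨R, 𝟙 _, 0, inferInstance, inferInstance, ?_⟩
    have : Subsingleton Γ(Spec R, ⊤) :=
      (Scheme.ΓSpecIso R).commRingCatIsoToRingEquiv.toEquiv.subsingleton
    exact Subsingleton.elim _ _
  · let x' : R := (Scheme.ΓSpecIso R).hom x
    let F : Polynomial R := Polynomial.X ^ 2 - (Polynomial.C x' * Polynomial.X + Polynomial.C x')
    have hlt : (Polynomial.C x' * Polynomial.X + Polynomial.C x').degree <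
        ((Polynomial.X : Polynomial R) ^ 2).degree := by
      rw [Polynomial.degree_X_pow]
      exact lt_of_le_of_lt (Polynomial.degree_linear_le) (by norm_num)
    have hF : F.Monic := (Polynomial.monic_X_pow 2).sub_of_left hlt
    have hd : F.natDegree ≠ 0 := by
      have h1 : F.degree = 2 := by
        rw [Polynomial.degree_sub_eq_left_of_degree_lt hlt, Polynomial.degree_X_pow]
        rfl
      rw [Polynomial.natDegree_eq_of_degree_eq_some h1]
      norm_num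
    obtain ⟨D, _, _, f, z, hf, hz⟩ := Groth.Agent.Sga3.H811.Sys.exists_root (R := R) F hF hd
    obtain ⟨h1, h2⟩ := Groth.Agent.Sga3.H811.Lift.flat_surjective_of
      (CommRingCat.ofHom (f : R →+* D)) hf
    refine ⟨CommRingCat.of D, Spec.map (CommRingCat.ofHom (f : R →+* D)),
      (Scheme.ΓSpecIso (CommRingCat.of D)).inv z, h1, h2, ?_⟩
    have h3 : z ^ 2 = f x' * z + f x' := by
      simp only [F, Polynomial.eval₂_sub, Polynomial.eval₂_pow, Polynomial.eval₂_X,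
        Polynomial.eval₂_C, Polynomial.eval₂_add, Polynomial.eval₂_mul] at hz
      exact sub_eq_zero.mp hz
    have h4 : x = (Scheme.ΓSpecIso R).inv x' := by
      change x = ((Scheme.ΓSpecIso R).hom ≫ (Scheme.ΓSpecIso R).inv) x
      rw [Iso.hom_inv_id]; rfl
    have h5 := congrArg (fun k => CommRingCat.Hom.hom k x')
      (Scheme.ΓSpecIso_inv_naturality (CommRingCat.ofHom (f : R →+* D)))
    have h6 : (Spec.map (CommRingCat.ofHom (f : R →+* D))).appTop x =
        (Scheme.ΓSpecIso (CommRingCat.of D)).inv (f x') := by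
      rw [h4]
      exact h5.symm
    rw [h6, ← map_pow, h3, map_add, map_mul]

variable {i : T ⟶ G} {α : T ⟶ Red.Gm S} {pp pm : Red.Ga S ⟶ G} {av : Red.Gm S ⟶ T}

section ww

variable (pp pm) [IsMonHom pp] [IsMonHom pm]

/-- the Weyl element `pp(1) pm(-1) pp(1)` -/
noncomputable def ww (X : Over S) : X ⟶ G := P pp X 1 * P pm X (-1) * P pp X 1

lemma comp_ww {X Y : Over S} (f : Y ⟶ X) : f ≫ ww pp pm X = ww pp pm Y := by
  unfold ww
  simp only [MonObj.comp_mul, comp_P, map_neg, map_one]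

end ww

variable [IsMonHom i] [IsMonHom pp] [IsMonHom pm] [IsMonHom av]

include i α in
theorem conj_of_unit (hpp : NormP i α pp) (h2 : av ≫ α = (𝟙 (Red.Gm S)) ^ 2)
    (h : RelH i pp pm av) {X : Over S} (x : Γ(X.left, ⊤)) (z : Γ(X.left, ⊤)ˣ)
    (hz : (z : Γ(X.left, ⊤)) = 1 + x) :
    ww pp pm X * P pp X x * (ww pp pm X)⁻¹ = P pm X (-x) := by
  have hi := Units.inv_mul z
  have h1 := h.rel x 1 z (by rw [hz, _root_.mul_one])
  rw [_root_.mul_one] at h1
  have h3 := h.rel 1 (-(((z⁻¹ : Γ(X.left, ⊤)ˣ) : Γ(X.left, ⊤)) * x)) z⁻¹ (by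
    linear_combination hi - (z⁻¹ : Γ(X.left, ⊤)ˣ) * hz)
  rw [_root_.inv_inv, _root_.mul_one] at h3
  have e1 : (z : Γ(X.left, ⊤)) * (-(((z⁻¹ : Γ(X.left, ⊤)ˣ) : Γ(X.left, ⊤)) * x)) = -x := by
    linear_combination (-x) * hi
  rw [e1] at h3
  -- conjugation by the torus
  have h4 : A av i X z⁻¹ * P pp X z = P pp X ((z⁻¹ : Γ(X.left, ⊤)ˣ)) * A av i X z⁻¹ := by
    have h5 := hpp.comm (gmPt X z⁻¹ ≫ av) (z : Γ(X.left, ⊤)) ((z⁻¹ : Γ(X.left, ⊤)ˣ)) (by
      rw [gmFn_A h2, _root_.mul_assoc, hi, _root_.mul_one])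
    rw [Category.assoc] at h5
    exact h5
  have h6 : A av i X z⁻¹ * A av i X z = 1 := by
    rw [← A_mul, inv_mul_cancel]
    have h7 := A_mul av i X 1 1
    rw [_root_.mul_one] at h7
    exact mul_eq_left.mp h7.symm
  have e2 : P pm X (-1) * P pm X (((z⁻¹ : Γ(X.left, ⊤)ˣ) : Γ(X.left, ⊤))) =
      P pm X (-(((z⁻¹ : Γ(X.left, ⊤)ˣ) : Γ(X.left, ⊤)) * x)) := by
    rw [← P_add]
    congr 1
    linear_combination hi - (z⁻¹ : Γ(X.left, ⊤)ˣ) * hz
  have e3 : P pp X ((z⁻¹ : Γ(X.left, ⊤)ˣ) : Γ(X.left, ⊤)) *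
      P pp X (((z⁻¹ : Γ(X.left, ⊤)ˣ) : Γ(X.left, ⊤)) * x) * P pp X (-1) = 1 := by
    rw [← P_add, ← P_add, ← P_zero pp X]
    congr 1
    linear_combination hi - (z⁻¹ : Γ(X.left, ⊤)ˣ) * hz
  have e4 : (ww pp pm X)⁻¹ = P pp X (-1) * P pm X 1 * P pp X (-1) := by
    unfold ww
    rw [P_neg, P_neg]
    group
  have e5 : P pp X 1 * P pp X x * P pp X (-1) = P pp X x := by
    rw [← P_add, ← P_add]
    congr 1
    ring
  calc ww pp pm X * P pp X x * (ww pp pm X)⁻¹
      = P pp X 1 * P pm X (-1) * (P pp X 1 * P pp X x * P pp X (-1)) * P pm X 1 * P pp X (-1) := by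
        rw [e4]; unfold ww; group
    _ = P pp X 1 * P pm X (-1) * (P pp X x * P pm X 1) * P pp X (-1) := by
        rw [e5]; group
    _ = P pp X 1 * (P pm X (-1) * P pm X (((z⁻¹ : Γ(X.left, ⊤)ˣ) : Γ(X.left, ⊤)))) * A av i X z *
          P pp X (((z⁻¹ : Γ(X.left, ⊤)ˣ) : Γ(X.left, ⊤)) * x) * P pp X (-1) := by
        rw [h1]; group
    _ = P pm X (-x) * A av i X z⁻¹ * P pp X z * A av i X z *
          P pp X (((z⁻¹ : Γ(X.left, ⊤)ˣ) : Γ(X.left, ⊤)) * x) * P pp X (-1) := by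
        rw [e2, h3]
    _ = P pm X (-x) * (A av i X z⁻¹ * P pp X z) * A av i X z *
          P pp X (((z⁻¹ : Γ(X.left, ⊤)ˣ) : Γ(X.left, ⊤)) * x) * P pp X (-1) := by
        group
    _ = P pm X (-x) * P pp X ((z⁻¹ : Γ(X.left, ⊤)ˣ)) * (A av i X z⁻¹ * A av i X z) *
          P pp X (((z⁻¹ : Γ(X.left, ⊤)ˣ) : Γ(X.left, ⊤)) * x) * P pp X (-1) := by
        rw [h4]; group
    _ = P pm X (-x) * (P pp X ((z⁻¹ : Γ(X.left, ⊤)ˣ)) *
          P pp X (((z⁻¹ : Γ(X.left, ⊤)ˣ) : Γ(X.left, ⊤)) * x) * P pp X (-1)) := by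
        rw [h6]; group
    _ = P pm X (-x) := by rw [e3, _root_.mul_one]

/-- **`w p(x) w⁻¹ = q(-x)`.** -/
theorem conj (hpp : NormP i α pp) (h2 : av ≫ α = (𝟙 (Red.Gm S)) ^ 2)
    (h : RelH i pp pm av) (X : Over S) (x : Γ(X.left, ⊤)) :
    ww pp pm X * P pp X x * (ww pp pm X)⁻¹ = P pm X (-x) := by
  apply AffYoneda.hom_ext
  intro R s g
  rw [MonObj.comp_mul, MonObj.comp_mul, GrpObj.comp_inv, comp_ww, comp_P, comp_P, map_neg]
  obtain ⟨D, f, t, hf1, hf2, ht⟩ := exists_sol R (g.left.appTop x)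
  have hf1' : Flat f := hf1
  have : Epi f := Flat.epi_of_flat_of_surjective f
  let F : Over.mk (f ≫ s) ⟶ Over.mk s := Over.homMk f rfl
  have : Epi F.left := this
  have : Epi F := Over.epi_of_epi_left F
  rw [← cancel_epi F, MonObj.comp_mul, MonObj.comp_mul, GrpObj.comp_inv, comp_ww, comp_P, comp_P,
    map_neg]
  let x' : Γ((Over.mk (f ≫ s)).left, ⊤) := F.left.appTop (g.left.appTop x)
  let t' : Γ((Over.mk (f ≫ s)).left, ⊤) := t
  have ht' : t' ^ 2 = x' * t' + x' := ht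
  have e : (1 + t') * (1 + (x' - t')) = 1 := by linear_combination -ht'
  let u : Γ((Over.mk (f ≫ s)).left, ⊤)ˣ := ⟨1 + t', 1 + (x' - t'), e, by rw [mul_comm]; exact e⟩
  have h5 := conj_of_unit hpp h2 h t' u rfl
  have h6 := conj_of_unit hpp h2 h (x' - t') u⁻¹ rfl
  have e2 : x' = t' + (x' - t') := by ring
  change ww pp pm _ * P pp _ x' * (ww pp pm _)⁻¹ = P pm _ (-x')
  rw [e2, P_add, neg_add, P_add, ← h5, ← h6]
  group

end K215.DualRoot
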