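import Groth.Agent.Red.K215.ChevPin
import Groth.Agent.Red.K215.BaseG2
import Groth.Agent.S8465
import Groth.Agent.Sga3B.SplitRedField415

/-!
# Commutation rules in a `G₂`-pair of a Chevalley system, with signs
-/

set_option autoImplicit false
set_option linter.unusedSectionVars false
universe u
open CategoryTheory MonoidalCategory CartesianMonoidalCategory MonObj GrpObj AlgebraicGeometry Limits

namespace K215.G2Chev

open Groth.Agent.Sga3B Groth.Agent.Sga3B.DSPts Groth.Agent.Sga3B.GaPts Groth.Agent.Sga3.H811.Pts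
open K215.ChevPin

section Comb

variable {J M N : Type*} [Finite J] [AddCommGroup M] [AddCommGroup N] (P : RootPairing J ℤ M N)

omit [Finite J] in
lemma pairingIn_eq (i j : J) : P.pairingIn ℤ i j = P.pairing i j := by
  have := P.algebraMap_pairingIn ℤ i j
  simpa using this

omit [Finite J] in
lemma pairing_comb {a b d c : J} {i j : ℤ} (h : P.root d = i • P.root a + j • P.root b) :
    P.pairing d c = i * P.pairing a c + j * P.pairing b c := by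
  have h1 := P.root_coroot'_eq_pairing c d
  rw [h, map_add, map_smul, map_smul, P.root_coroot'_eq_pairing, P.root_coroot'_eq_pairing] at h1
  rw [← h1]; simp

/-- `3a + b` is a root only in type `G₂` -/
theorem pairings_of_root [P.IsReduced] {a b c : J} (h : P.root c = (3 : ℤ) • P.root a + P.root b) :
    P.pairing b a = -3 ∧ P.pairing a b = -1 := by
  have h1 := P.pairingIn_pairingIn_mem_set_of_isCrystal_of_isRed c a
  have h2 := P.pairingIn_pairingIn_mem_set_of_isCrystal_of_isRed b a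
  have h3 : P.pairing c a = 3 * P.pairing a a + 1 * P.pairing b a :=
    pairing_comb P (by rw [h, one_smul])
  rw [P.pairing_same] at h3
  simp only [pairingIn_eq, Set.mem_insert_iff, Set.mem_singleton_iff, Prod.mk.injEq] at h1 h2
  omega

omit [Finite J] in
lemma root_refl (a b : J) : P.root (P.reflectionPerm a b) = P.root b - P.pairing b a • P.root a := by
  rw [P.root_reflectionPerm, P.reflection_apply, ← P.root_coroot'_eq_pairing a b]

end Comb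

variable {S : Scheme.{u}} {G : Over S} [GrpObj G]
variable {D : Red.SplitRed G} {v vd : D.idx → (Red.Ga S ⟶ G)}
variable {e₁ : 𝟙_ (Over S) ⟶ Red.Ga S} {n : D.idx → (𝟙_ (Over S) ⟶ G)}

/-- The rank two rules in type `G₂`. -/
theorem main [D.P.IsReduced] (h : Chev D v vd e₁ n) {a b : D.idx} (hba : D.P.pairing b a = -3)
    (hab : D.P.pairing a b = -1) {c₁ c₂ c₃ c₄ : D.idx}
    (hc₁ : D.P.root c₁ = D.P.root a + D.P.root b)
    (hc₂ : D.P.root c₂ = (2 : ℤ) • D.P.root a + D.P.root b)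
    (hc₃ : D.P.root c₃ = (3 : ℤ) • D.P.root a + D.P.root b)
    (hc₄ : D.P.root c₄ = (3 : ℤ) • D.P.root a + (2 : ℤ) • D.P.root b) :
    ∃ s₁ s₂ s₃ s₄ : ℤ, ((s₁ = 1 ∨ s₁ = -1) ∧ (s₂ = 1 ∨ s₂ = -1) ∧ (s₃ = 1 ∨ s₃ = -1) ∧
      (s₄ = 1 ∨ s₄ = -1)) ∧ ∀ (X : Over S) (x y : X ⟶ Red.Ga S),
      (y ≫ v b) * (x ≫ v a) * (y ≫ v b)⁻¹ * (x ≫ v a)⁻¹ =
        (gaPt X (s₁ * (Red.gaFn x * Red.gaFn y)) ≫ v c₁) *
        (gaPt X (s₂ * (-(Red.gaFn x ^ 2 * Red.gaFn y))) ≫ v c₂) *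
        (gaPt X (s₃ * (Red.gaFn x ^ 3 * Red.gaFn y)) ≫ v c₃) *
        (gaPt X (s₄ * (-(Red.gaFn x ^ 3 * Red.gaFn y ^ 2))) ≫ v c₄) ∧
      (gaPt X (s₁ * Red.gaFn y) ≫ v c₁) * (x ≫ v a) * (gaPt X (s₁ * Red.gaFn y) ≫ v c₁)⁻¹ *
          (x ≫ v a)⁻¹ =
        (gaPt X (s₂ * (2 * Red.gaFn x * Red.gaFn y)) ≫ v c₂) *
        (gaPt X (s₃ * (-(3 * Red.gaFn x ^ 2 * Red.gaFn y))) ≫ v c₃) *
        (gaPt X (s₄ * (-(3 * Red.gaFn x * Red.gaFn y ^ 2))) ≫ v c₄) := by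
  choose ε hε H using h.hSC
  obtain ⟨Δ, ha, hb⟩ := BaseG2.exists_base_of_g2 D.P hba hab
  have hne : a ≠ b := by
    rintro rfl
    rw [D.P.pairing_same] at hba
    norm_num at hba
  -- the four roots
  have r1 : D.P.reflectionPerm b a = c₁ := by
    apply D.P.root.injective
    rw [root_refl, hab, hc₁]; module
  have r2 : D.P.reflectionPerm a c₁ = c₂ := by
    apply D.P.root.injective
    have h1 : D.P.pairing c₁ a = -1 := by
      rw [pairing_comb D.P (i := 1) (j := 1) (a := a) (b := b) (by rw [hc₁]; module),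
        D.P.pairing_same, hba]; norm_num
    rw [root_refl, h1, hc₁, hc₂]; module
  have r3 : D.P.reflectionPerm a b = c₃ := by
    apply D.P.root.injective
    rw [root_refl, hba, hc₃]; module
  have r4 : D.P.reflectionPerm b c₃ = c₄ := by
    apply D.P.root.injective
    have h1 : D.P.pairing c₃ b = -1 := by
      rw [pairing_comb D.P (i := 3) (j := 1) (a := a) (b := b) (by rw [hc₃]; module),
        D.P.pairing_same, hab]; norm_num
    rw [root_refl, h1, hc₃, hc₄]; module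
  have hsq : ∀ c d, ε c d = 1 ∨ ε c d = -1 := hε
  -- conjugation rules
  have hconj : ∀ (c d d' : D.idx), D.P.reflectionPerm c d = d' → ∀ (X : Over S)
      (z : Γ(X.left, ⊤)), (toUnit X ≫ n c) * (gaPt X z ≫ v d) * (toUnit X ≫ n c)⁻¹ =
        gaPt X (ε c d * z) ≫ v d' := by
    rintro c d _ rfl X z
    exact H c d X _ _ (by rw [gaFn_gaPt, gaFn_gaPt])
  have hinv : ∀ (d : D.idx) (X : Over S) (z : X ⟶ Red.Ga S),
      (z⁻¹ ≫ v d) = (z ≫ v d)⁻¹ := by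
    intro d X z
    have := (h.hv d).1
    rw [GrpObj.inv_comp]
  have hinv' : ∀ (d : D.idx) (X : Over S) (z : Γ(X.left, ⊤)),
      (gaPt X z ≫ v d)⁻¹ = gaPt X (-z) ≫ v d := by
    intro d X z
    have := (h.hv d).1
    exact (RankOne.P_neg (v d) X z).symm
  refine ⟨ε b a, ε a c₁ * ε b a, -ε a b, ε b c₃ * (-ε a b), ⟨hsq _ _, ?_, ?_, ?_⟩, ?_⟩
  · rcases hsq a c₁ with h1 | h1 <;> rcases hsq b a with h2 | h2 <;> simp [h1, h2]
  · rcases hsq a b with h1 | h1 <;> simp [h1]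
  · rcases hsq b c₃ with h1 | h1 <;> rcases hsq a b with h2 | h2 <;> simp [h1, h2]
  intro X x y
  have pa : Δ.IsPos a := Δ.isPos_of_mem_support ha
  have pb : Δ.IsPos b := Δ.isPos_of_mem_support hb
  -- the four root homomorphisms
  have e11 : ∀ (z : Γ(X.left, ⊤)), (toUnit X ≫ n b) * (gaPt X z ≫ v a) * (toUnit X ≫ n b)⁻¹ =
      gaPt X (ε b a * z) ≫ v c₁ := fun z => hconj b a c₁ r1 X z
  have e21 : ∀ (z : Γ(X.left, ⊤)), (toUnit X ≫ (n a * n b)) * (gaPt X z ≫ v a) *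
      (toUnit X ≫ (n a * n b))⁻¹ = gaPt X (ε a c₁ * (ε b a * z)) ≫ v c₂ := by
    intro z
    rw [MonObj.comp_mul, ← hconj a c₁ c₂ r2 X, ← e11]
    group
  have e31 : ∀ (z : Γ(X.left, ⊤)), (toUnit X ≫ n a) * (gaPt X z ≫ v b)⁻¹ * (toUnit X ≫ n a)⁻¹ =
      gaPt X (ε a b * (-z)) ≫ v c₃ := by
    intro z
    rw [hinv', hconj a b c₃ r3 X]
  have e32 : ∀ (z : Γ(X.left, ⊤)), (toUnit X ≫ (n b * n a)) * (gaPt X z ≫ v b)⁻¹ *
      (toUnit X ≫ (n b * n a))⁻¹ = gaPt X (ε b c₃ * (ε a b * (-z))) ≫ v c₄ := by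
    intro z
    rw [MonObj.comp_mul, ← hconj b c₃ c₄ r4 X, ← e31]
    group
  let D' : Red.Pinning G := chevPin h Δ
  have ua : D'.u a = v a := uOf_pos v vd Δ pa
  have ub : D'.u b = v b := uOf_pos v vd Δ pb
  have hw : ∀ c, Δ.IsPos c → (e₁ ≫ D'.u c) * (e₁ ≫ D'.u (D'.P.reflectionPerm c c))⁻¹ *
      (e₁ ≫ D'.u c) = n c := by
    intro c hc
    have u1 : D'.u c = v c := uOf_pos v vd Δ hc
    have u2 : D'.u (D'.P.reflectionPerm c c) = vd c := uOf_neg v vd Δ hc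
    rw [u1, u2, h.hn]
  have key := Groth.Agent.S8465.result S e₁ h.he₁ G D' _ (fun _ => rfl) (fun c hc X x y hxy => by
      have pc : Δ.IsPos c := Δ.isPos_of_mem_support hc
      have u1 : D'.u c = v c := uOf_pos v vd Δ pc
      have u2 : D'.u (D'.P.reflectionPerm c c) = vd c := uOf_neg v vd Δ pc
      rw [u1, u2]
      exact h.hvd c X x y hxy)
    _ (fun _ => rfl) a b ha hb hne hba hab _ (fun _ _ => rfl) _ (fun _ _ => rfl) _
    (fun _ _ => rfl) _ (fun _ _ => rfl) X x⁻¹ y⁻¹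
    (gaPt X (Red.gaFn x * Red.gaFn y)) (gaPt X (-(Red.gaFn x ^ 2 * Red.gaFn y)))
    (gaPt X (Red.gaFn x ^ 3 * Red.gaFn y)) (gaPt X (-(Red.gaFn x ^ 3 * Red.gaFn y ^ 2)))
    (gaPt X (2 * Red.gaFn x * Red.gaFn y)) (gaPt X (-(3 * Red.gaFn x ^ 2 * Red.gaFn y)))
    (gaPt X (-(3 * Red.gaFn x * Red.gaFn y ^ 2))) (gaPt X (3 * Red.gaFn x * Red.gaFn y))
    (gaPt X (-(Red.gaFn x * Red.gaFn y))) (gaPt X (3 * Red.gaFn x * Red.gaFn y))
    (by rw [gaFn_gaPt, gaFn_inv, gaFn_inv]; ring) (by rw [gaFn_gaPt, gaFn_inv, gaFn_inv]; ring)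
    (by rw [gaFn_gaPt, gaFn_inv, gaFn_inv]; ring) (by rw [gaFn_gaPt, gaFn_inv, gaFn_inv]; ring)
    (by rw [gaFn_gaPt, gaFn_inv, gaFn_inv]; ring) (by rw [gaFn_gaPt, gaFn_inv, gaFn_inv]; ring)
    (by rw [gaFn_gaPt, gaFn_inv, gaFn_inv]; ring) (by rw [gaFn_gaPt, gaFn_inv, gaFn_inv]; ring)
    (by rw [gaFn_gaPt, gaFn_inv, gaFn_inv]; ring) (by rw [gaFn_gaPt, gaFn_inv, gaFn_inv]; ring)
  obtain ⟨k1, k2, -⟩ := key
  rw [hw a pa, hw b pb] at k1 k2
  rw [ua, ub] at k1 k2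
  rw [hinv, hinv, e11, e21, e31, e32] at k1
  have f11 : (toUnit X ≫ n b) * (y ≫ v a)⁻¹ * (toUnit X ≫ n b)⁻¹ =
      (gaPt X (ε b a * Red.gaFn y) ≫ v c₁)⁻¹ := by
    rw [← e11, gaPt_gaFn]
    group
  rw [hinv, hinv, f11, e21, e31, e32] at k2
  have g2 : ∀ z : Γ(X.left, ⊤), ((ε a c₁ * ε b a : ℤ) : Γ(X.left, ⊤)) * z =
      ε a c₁ * (ε b a * z) := fun z => by push_cast; ring
  have g3 : ∀ z : Γ(X.left, ⊤), ((-ε a b : ℤ) : Γ(X.left, ⊤)) * z =
      ε a b * -z := fun z => by push_cast; ring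
  have g4 : ∀ z : Γ(X.left, ⊤), ((ε b c₃ * -ε a b : ℤ) : Γ(X.left, ⊤)) * z =
      ε b c₃ * (ε a b * -z) := fun z => by push_cast; ring
  have core : ∀ (P Q W : X ⟶ G), Q⁻¹ * P⁻¹ = P⁻¹ * Q⁻¹ * W → Q * P * Q⁻¹ * P⁻¹ = W := by
    intro P Q W hW
    have h1 : Q * P * Q⁻¹ * P⁻¹ = Q * P * (Q⁻¹ * P⁻¹) := by group
    rw [h1, hW]
    group
  constructor
  · rw [g2, g3, g4]
    refine core _ _ _ ?_
    rw [k1]
    group
  · rw [g2, g3, g4]
    refine core _ _ _ ?_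
    rw [k2]
    group

end K215.G2Chev
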