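import Groth.Agent.Sga3B.IsoFam
import Mathlib.AlgebraicGeometry.Morphisms.Smooth

/-!
# Isomorphisms of groups from families over a terminal object, restriction to a base change
-/

set_option autoImplicit false
universe u
open CategoryTheory MonoidalCategory CartesianMonoidalCategory MonObj GrpObj AlgebraicGeometry

namespace K215.IsoLift

open Groth.Agent.Sga3B.BcPts Groth.Agent.Sga3B.IsoFam

variable {S : Scheme.{u}} {G H : Over S}

/-- An iso family over the terminal object is an isomorphism of groups. -/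
theorem exists_iso_of_unit [GrpObj G] [GrpObj H] {φ : G ⊗ Over.mk (𝟙 S) ⟶ H}
    (h : AutFam.IsIsoFamily G H φ) (t₀ : ∀ X : Over S, X ⟶ Over.mk (𝟙 S)) :
    ∃ e : Grp.mk G ≅ Grp.mk H, ∀ (X : Over S) (g : X ⟶ G), g ≫ e.hom.hom.hom = lift g (t₀ X) ≫ φ := by
  obtain ⟨h1, ψ, h2, h3⟩ := h
  have hu : ∀ {X : Over S} (a b : X ⟶ Over.mk (𝟙 S)), a = b := fun a b => toUnit_unique (C := Over S) a b
  let f : G ⟶ H := lift (𝟙 G) (t₀ G) ≫ φ
  let f' : H ⟶ G := lift (𝟙 H) (t₀ H) ≫ ψ
  have hf : ∀ (X : Over S) (g : X ⟶ G), g ≫ f = lift g (t₀ X) ≫ φ := by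
    intro X g
    have : g ≫ lift (𝟙 G) (t₀ G) = lift g (t₀ X) := by
      rw [comp_lift, Category.comp_id, hu (g ≫ t₀ G) (t₀ X)]
    rw [← this, Category.assoc]
  have hf' : ∀ (X : Over S) (g : X ⟶ H), g ≫ f' = lift g (t₀ X) ≫ ψ := by
    intro X g
    have : g ≫ lift (𝟙 H) (t₀ H) = lift g (t₀ X) := by
      rw [comp_lift, Category.comp_id, hu (g ≫ t₀ H) (t₀ X)]
    rw [← this, Category.assoc]
  have hmon : IsMonHom f := isMonHom_of_mul _ fun X x y => by
    rw [hf, hf, hf]
    exact h1 X x y _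
  let e : G ≅ H :=
    { hom := f
      inv := f'
      hom_inv_id := by
        rw [hf']
        exact h2 G (𝟙 G) (t₀ G)
      inv_hom_id := by
        rw [hf]
        exact h3 H (𝟙 H) (t₀ H) }
  have : IsMonHom e.hom := hmon
  exact ⟨Grp.mkIso' e, hf⟩

/-- Recovering a morphism of base changes from its values on points. -/
theorem eq_map_of_ev {S' : Scheme.{u}} {f : S' ⟶ S} (φ : Red.bc f G ⟶ Red.bc f H) (e : G ⟶ H)
    (h : ∀ (X : Over S) (x : X ⟶ G) (t : X ⟶ Over.mk f), ev φ x t = x ≫ e) :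
    (Over.pullback f).map e = φ := by
  have h1 := h ((Over.map f).obj (Red.bc f G)) ((bcEquiv f _ G).symm (𝟙 _))
    (Over.homMk (Red.bc f G).hom)
  rw [← bcEquiv_symm_comp, Category.id_comp] at h1
  have h2 : ev φ ((bcEquiv f _ G).symm (𝟙 (Red.bc f G)))
      (Over.homMk (Red.bc f G).hom : (Over.map f).obj (Red.bc f G) ⟶ Over.mk f) =
      (bcEquiv f _ H).symm φ := by
    unfold ev
    have e1 : (overIso (Over.homMk (Red.bc f G).hom :
        (Over.map f).obj (Red.bc f G) ⟶ Over.mk f)).hom =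
        𝟙 ((Over.map f).obj (Red.bc f G)) := by ext1; rfl
    have e2 : (overIso (Over.homMk (Red.bc f G).hom :
        (Over.map f).obj (Red.bc f G) ⟶ Over.mk f)).inv =
        𝟙 ((Over.map f).obj (Red.bc f G)) := by ext1; rfl
    rw [e1, e2]
    have e3 := Category.id_comp ((bcEquiv f (Red.bc f G) G).symm (𝟙 (Red.bc f G)))
    have e4 : (bcEquiv f (Red.bc f G) G) (𝟙 ((Over.map f).obj (Red.bc f G)) ≫
      (bcEquiv f (Red.bc f G) G).symm (𝟙 (Red.bc f G))) = 𝟙 (Red.bc f G) := by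
      rw [e3, Equiv.apply_symm_apply]
    refine (Category.id_comp _).trans ?_
    refine congrArg (bcEquiv f (Red.bc f G) H).symm ?_
    refine (congrArg (fun k => k ≫ φ) e4).trans ?_
    exact Category.id_comp _
  rw [h2] at h1
  exact ((bcEquiv f _ H).symm.injective h1).symm

end K215.IsoLift
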