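import Groth.Agent.S2756
import Groth.Agent.Red.K212.Fn
import Groth.Agent.Sga3.H811.Lift
import Groth.Agent.Ega43.FPOfComp
import Groth.Agent.Sga3B.BcPts

/-!
# Kernels which are trivial on a fibre
-/

set_option autoImplicit false
set_option maxHeartbeats 400000
universe u
open CategoryTheory MonoidalCategory CartesianMonoidalCategory MonObj GrpObj AlgebraicGeometry Limits

namespace K215.MonoNhd

open Groth.Agent.Sga3B Groth.Agent.Sga3B.GaPts Groth.Agent.Sga3.H811.Pts

/-- if `f ≫ g` is an open immersion and `g` is unramified then `f` is an open immersion -/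
theorem isOpenImmersion_of_comp {X Y Z : Scheme.{u}} (f : X ⟶ Y) (g : Y ⟶ Z) [IsOpenImmersion (f ≫ g)]
    [LocallyOfFiniteType g] [FormallyUnramified g] : IsOpenImmersion f := by
  have h : MorphismProperty.HasOfPostcompProperty
      @IsOpenImmersion (@LocallyOfFiniteType ⊓ @FormallyUnramified) := by
    rw [MorphismProperty.hasOfPostcompProperty_iff_le_diagonal]
    intro X Y f ⟨hft, hfu⟩
    exact inferInstanceAs <| IsOpenImmersion (pullback.diagonal f)
  exact h.of_postcomp f g ⟨‹_›, ‹_›⟩ ‹_›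

variable {S : Scheme.{u}}

/-- the unit section, on underlying schemes -/
lemma one_left {G : Over S} [GrpObj G] (X : Over S) : (1 : X ⟶ G).left = X.hom ≫ η[G].left := by
  rw [Hom.one_def, Over.comp_left]
  rfl

lemma eta_hom {G : Over S} [GrpObj G] : η[G].left ≫ G.hom = 𝟙 S := Over.w η[G]

/-- **Kernels trivial on a fibre are trivial near the unit section.** -/
theorem exists_nhd {A G : Over S} [GrpObj A] [GrpObj G] [LocallyOfFinitePresentation A.hom]
    [LocallyOfFinitePresentation G.hom] (v : A ⟶ G) [IsMonHom v] (s₀ : S)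
    (hm : Mono ((Over.pullback (S.fromSpecResidueField s₀)).map v)) :
    ∃ (V : S.Opens) (W : Set A.left), s₀ ∈ V ∧ IsOpen W ∧
      ∀ X : Over S, Set.range X.hom ⊆ (V : Set S) → Set.range (1 : X ⟶ A).left ⊆ W ∧
        ∀ x : X ⟶ A, x ≫ v = 1 → Set.range x.left ⊆ W → x = 1 := by
  let e : S ⟶ G.left := η[G].left
  let eA : S ⟶ A.left := η[A].left
  have he : e ≫ G.hom = 𝟙 S := eta_hom
  have heA : eA ≫ A.hom = 𝟙 S := eta_hom
  have heAv : eA ≫ v.left = e := by
    have h1 : η[A] ≫ v = η[G] := IsMonHom.one_hom v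
    exact congrArg (fun k => k.left) h1
  have hei : IsImmersion e := by
    have : IsImmersion (e ≫ G.hom) := by rw [he]; infer_instance
    exact IsImmersion.of_comp e G.hom
  have hefp : LocallyOfFinitePresentation e := by
    have h1 : LocallyOfFinitePresentation (e ≫ G.hom) := by rw [he]; infer_instance
    exact Groth.Agent.Ega43.FPOfComp.locallyOfFinitePresentation_of_comp e G.hom
  let N := pullback v.left e
  let p₁ : N ⟶ A.left := pullback.fst v.left e
  let p₂ : N ⟶ S := pullback.snd v.left e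
  have hp : p₁ ≫ A.hom = p₂ := by
    have h1 : p₁ ≫ v.left = p₂ ≫ e := pullback.condition
    have h2 : v.left ≫ G.hom = A.hom := Over.w v
    rw [← h2, ← Category.assoc, h1, Category.assoc, he, Category.comp_id]
  have hp₁ : IsImmersion p₁ := inferInstance
  have hp₂ : LocallyOfFinitePresentation p₂ := by
    rw [← hp]
    infer_instance
  -- the unit section of `N`
  let o : S ⟶ N := pullback.lift eA (𝟙 S) (by rw [heAv, Category.id_comp])
  have ho₁ : o ≫ p₁ = eA := pullback.lift_fst _ _ _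
  have ho₂ : o ≫ p₂ = 𝟙 S := pullback.lift_snd _ _ _
  let g := S.fromSpecResidueField s₀
  -- points of the kernel
  have hker : ∀ (X : Over S) (n : X.left ⟶ N) (hn : n ≫ p₂ = X.hom),
      ∃ x : X ⟶ A, x.left = n ≫ p₁ ∧ x ≫ v = 1 := by
    intro X n hn
    refine ⟨Over.homMk (n ≫ p₁) (by rw [Category.assoc, hp, hn]), rfl, ?_⟩
    ext1
    rw [Over.comp_left, one_left]
    change (n ≫ p₁) ≫ v.left = X.hom ≫ e
    rw [Category.assoc, pullback.condition, ← Category.assoc, ← hn]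
  -- the fibre of `N` is trivial
  have hmono : Mono (pullback.snd p₂ g) := by
    constructor
    intro Z a b hab
    let Z' : Over (Spec (S.residueField s₀)) := Over.mk (a ≫ pullback.snd p₂ g)
    let X : Over S := (Over.map g).obj Z'
    obtain ⟨xa, hxa, hxa'⟩ := hker X (a ≫ pullback.fst p₂ g) (by
      change (a ≫ pullback.fst p₂ g) ≫ p₂ = (a ≫ pullback.snd p₂ g) ≫ g
      rw [Category.assoc, Category.assoc, pullback.condition])
    obtain ⟨xb, hxb, hxb'⟩ := hker X (b ≫ pullback.fst p₂ g) (by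
      change (b ≫ pullback.fst p₂ g) ≫ p₂ = (a ≫ pullback.snd p₂ g) ≫ g
      rw [hab, Category.assoc, Category.assoc, pullback.condition])
    have h1 : xa = xb := by
      apply (DSPts.bcEquiv g Z' A).injective
      rw [← cancel_mono ((Over.pullback g).map v), DSPts.bcEquiv_comp, DSPts.bcEquiv_comp, hxa', hxb']
    have h2 : (a ≫ pullback.fst p₂ g) ≫ p₁ = (b ≫ pullback.fst p₂ g) ≫ p₁ := by
      rw [← hxa, ← hxb, h1]
    have hpm : Mono p₁ := inferInstance
    rw [cancel_mono] at h2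
    exact pullback.hom_ext h2 hab
  let x' : ↑(pullback p₂ g) := (pullback.lift (g ≫ o) (𝟙 _) (by rw [Category.assoc, ho₂, Category.comp_id,
    Category.id_comp])) (IsLocalRing.closedPoint (S.residueField s₀))
  obtain ⟨U, hxU, hU⟩ := Groth.Agent.S2756.result p₂ g x' ⟨⊤, trivial, inferInstance⟩
  have hx' : (pullback.fst p₂ g) x' = o s₀ := by
    change (pullback.fst p₂ g) ((pullback.lift (g ≫ o) (𝟙 _) _) _) = _
    rw [← Scheme.Hom.comp_apply, pullback.lift_fst, Scheme.Hom.comp_apply, Scheme.fromSpecResidueField_apply]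
  rw [hx'] at hxU
  let V : S.Opens := o ⁻¹ᵁ U
  have hV : s₀ ∈ V := hxU
  have hσ : (o ∣_ U) ≫ (U.ι ≫ p₂) = V.ι := by
    rw [← Category.assoc, morphismRestrict_ι, Category.assoc, ho₂, Category.comp_id]
  have hσ1 : IsOpenImmersion ((o ∣_ U) ≫ (U.ι ≫ p₂)) := by rw [hσ]; infer_instance
  have hσ2 : IsOpenImmersion (o ∣_ U) := isOpenImmersion_of_comp _ (U.ι ≫ p₂)
  have hτ : IsOpenImmersion (V.ι ≫ o) := by
    rw [← morphismRestrict_ι]
    infer_instance
  have hop : IsOpen (Set.range (V.ι ≫ o)) := (V.ι ≫ o).isOpenEmbedding.isOpen_range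
  obtain ⟨W, hW, hW'⟩ := p₁.isEmbedding.isInducing.isOpen_iff.mp hop
  refine ⟨V, W, hV, hW, fun X hX => ⟨?_, fun x hx hxW => ?_⟩⟩
  · rintro _ ⟨z, rfl⟩
    have h1 : X.hom z ∈ V := hX ⟨z, rfl⟩
    have h2 : (o (X.hom z)) ∈ Set.range (V.ι ≫ o) := by
      refine ⟨⟨X.hom z, h1⟩, ?_⟩
      rw [Scheme.Hom.comp_apply]
      rfl
    rw [← hW'] at h2
    have h3 : (1 : X ⟶ A).left z = p₁ (o (X.hom z)) := by
      rw [one_left, Scheme.Hom.comp_apply, ← Scheme.Hom.comp_apply o p₁, ho₁]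
    rw [h3]
    exact h2
  · -- `x` lifts to the kernel
    let n : X.left ⟶ N := pullback.lift x.left X.hom (by
      have h1 := congrArg (fun k => k.left) hx
      simp only [Over.comp_left] at h1
      rw [h1, one_left])
    have hn₁ : n ≫ p₁ = x.left := pullback.lift_fst _ _ _
    have hn₂ : n ≫ p₂ = X.hom := pullback.lift_snd _ _ _
    have hr : Set.range n ⊆ Set.range (V.ι ≫ o) := by
      rintro _ ⟨z, rfl⟩
      rw [← hW']
      change p₁ (n z) ∈ W
      rw [← Scheme.Hom.comp_apply, hn₁]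
      exact hxW ⟨z, rfl⟩
    let l := IsOpenImmersion.lift (V.ι ≫ o) n hr
    have hl : l ≫ (V.ι ≫ o) = n := IsOpenImmersion.lift_fac _ _ _
    have h4 : l ≫ V.ι = X.hom := by
      rw [← hn₂, ← hl, Category.assoc, Category.assoc, ho₂, Category.comp_id]
    ext1
    rw [one_left, ← hn₁, ← hl, ← h4]
    simp only [Category.assoc, ho₁]
    rfl

section contract

open K212.Gen K212.Gen2

variable {T G : Over S} [GrpObj T] [GrpObj G] (hT : Red.IsTorus T) (α : T ⟶ Red.Gm S) [IsMonHom α]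
  (hα : ∀ s : S, (Over.pullback (Red.geomPt s)).map α ≠ 1) (u : Red.Ga S ⟶ G)
  (hn : ∀ (X : Over S) (t : X ⟶ T) (x x' : X ⟶ Red.Ga S), Red.gaFn x' = Red.gmFn (t ≫ α) * Red.gaFn x →
    x ≫ u = 1 → x' ≫ u = 1)

include hT hα hn in
/-- **Contraction**: a torus-stable kernel in `𝔾_a`, trivial near the zero section, is trivial. -/
theorem eq_zero_of_contract (V : S.Opens) (W : Set (Red.Ga S).left) (hW : IsOpen W)
    (hVW : ∀ X : Over S, Set.range X.hom ⊆ (V : Set S) → Set.range (1 : X ⟶ Red.Ga S).left ⊆ W ∧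
        ∀ x : X ⟶ Red.Ga S, x ≫ u = 1 → Set.range x.left ⊆ W → x = 1)
    {X : Over S} (hX : Set.range X.hom ⊆ (V : Set S)) (x : X ⟶ Red.Ga S) (hx : x ≫ u = 1) :
    Red.gaFn x = 0 := by
  refine fn_ext fun ξ => ?_
  let φ : X ⊗ Red.Ga S ⟶ Red.Ga S :=
    gaPt _ ((fst X (Red.Ga S)).left.appTop (Red.gaFn x) * Red.gaFn (snd X (Red.Ga S)))
  have hφ : ∀ {Y : Over S} (a : Y ⟶ X) (b : Y ⟶ Red.Ga S),
      lift a b ≫ φ = gaPt Y (a.left.appTop (Red.gaFn x) * Red.gaFn b) := by
    intro Y a b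
    change lift a b ≫ gaPt _ _ = _
    rw [comp_gaPt, map_mul, ← gaFn_comp, ← gaFn_comp, ← gaFn_comp, lift_snd, ← Category.assoc, lift_fst,
      gaFn_comp a]
  obtain ⟨X', f, v, hf, hξ, hv, hgen⟩ := K212.Gen2.exists_generic X ξ
  obtain ⟨x', hx'⟩ := hξ
  have h1 := hgen (Red.Ga S) φ W hW (by
    rw [hφ, gaFn_gaPt, mul_zero]
    have h0 : (gaPt X 0 : X ⟶ Red.Ga S) = 1 := by
      apply gaFn_injective
      rw [gaFn_gaPt, gaFn_one]
    rw [h0]
    exact (hVW X hX).1 ⟨ξ, rfl⟩)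
  rw [hφ, gaFn_gaPt] at h1
  obtain ⟨v, rfl⟩ : IsUnit v := by
    have := hv 0
    rwa [map_zero, sub_zero] at this
  obtain ⟨X'', g, t, hg, hx'', ht⟩ := Groth.Agent.Sga3.H811.Lift.exists_lift hT α hα X' (gmPt X' v) x'
  have hX'' : Set.range X''.hom ⊆ (V : Set S) := by
    rintro _ ⟨z, rfl⟩
    rw [← Over.w g, ← Over.w f, Scheme.Hom.comp_apply, Scheme.Hom.comp_apply]
    exact hX ⟨_, rfl⟩
  have h2 : (g ≫ gaPt X' (f.left.appTop (Red.gaFn x) * v)) ≫ u = 1 := by
    refine hn X'' t (g ≫ f ≫ x) _ ?_ ?_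
    · rw [gaFn_comp, gaFn_gaPt, ht, gmFn_comp, gmFn_gmPt, map_mul, gaFn_comp, gaFn_comp, mul_comm]
    · rw [Category.assoc, Category.assoc, hx, MonObj.comp_one, MonObj.comp_one]
  have h3 := (hVW X'' hX'').2 _ h2 (by
    rintro _ ⟨z, rfl⟩
    rw [Over.comp_left, Scheme.Hom.comp_apply]
    exact h1 ⟨_, rfl⟩)
  refine ⟨X'', g ≫ f, ?_, ?_, ?_⟩
  · rw [Over.comp_left]; infer_instance
  · obtain ⟨x'', hx''⟩ := hx''
    refine ⟨x'', ?_⟩
    rw [Over.comp_left, Scheme.Hom.comp_apply, hx'', hx']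
  · have h4 := congrArg Red.gaFn h3
    rw [gaFn_comp, gaFn_gaPt, gaFn_one, map_mul] at h4
    have h5 : IsUnit (g.left.appTop (v : Γ(X'.left, ⊤))) := v.isUnit.map _
    rw [map_zero, Over.comp_left, Scheme.Hom.comp_appTop]
    exact (h5.mul_left_eq_zero).mp h4

end contract

end K215.MonoNhd
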