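import Mathlib.RingTheory.PowerSeries.Substitution
import Mathlib.RingTheory.PowerSeries.Derivative
import Mathlib.Algebra.DualNumber
import Mathlib.Tactic.LinearCombination
import Mathlib.Tactic.Ring
import Mathlib.Tactic.IntervalCases
import Mathlib.RingTheory.PowerSeries.Inverse

/-!
# The functional equation `F(x + y F(x)) = F(x) F(y)` for formal power series
-/

set_option autoImplicit false
universe u

namespace K215.PSFun

open PowerSeries TrivSqZeroExt

variable {R : Type u} [CommRing R]

/-- power series over the dual numbers -/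
abbrev DPS (R : Type u) [CommRing R] := PowerSeries (DualNumber R)

/-- the inclusion -/
noncomputable def inc : PowerSeries R →+* DPS R := PowerSeries.map (inlHom R R)

/-- the element `ε` -/
noncomputable def ee : DPS R := PowerSeries.C (DualNumber.eps : DualNumber R)

lemma ee_mul : (ee : DPS R) * ee = 0 := by
  rw [ee, ← map_mul, DualNumber.eps_mul_eps, map_zero]

/-- the Taylor map `F ↦ F + ε F' H` -/
noncomputable def tay (H : PowerSeries R) : PowerSeries R →+* DPS R where
  toFun F := inc F + ee * inc (PowerSeries.derivative R F * H)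
  map_one' := by simp
  map_zero' := by simp
  map_add' F G := by simp only [map_add, add_mul]; ring
  map_mul' F G := by
    simp only [Derivation.leibniz, smul_eq_mul, map_mul, map_add, add_mul]
    have h := ee_mul (R := R)
    linear_combination (-inc (PowerSeries.derivative R F) * inc (PowerSeries.derivative R G) *
      inc H * inc H) * h

lemma tay_apply (H F : PowerSeries R) :
    tay H F = inc F + ee * inc (PowerSeries.derivative R F * H) := rfl

/-- the point `X + ε H` -/
noncomputable def pt (H : PowerSeries R) : DPS R := PowerSeries.X + ee * inc H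

lemma tay_X (H : PowerSeries R) : tay H PowerSeries.X = pt H := by
  rw [tay_apply, pt]
  simp [inc]

lemma tay_C (H : PowerSeries R) (r : R) : tay H (PowerSeries.C r) = PowerSeries.C (inl r) := by
  rw [tay_apply]
  simp [inc, PowerSeries.derivative_C]

lemma hasSubst_pt (H : PowerSeries R) : PowerSeries.HasSubst (pt H) := by
  refine ⟨2, ?_⟩
  change (PowerSeries.constantCoeff (pt H)) ^ 2 = 0
  have h : PowerSeries.constantCoeff (pt H) =
      DualNumber.eps * PowerSeries.constantCoeff (inc H) := by
    simp [pt, ee]
  rw [h, mul_pow, pow_two DualNumber.eps, DualNumber.eps_mul_eps, zero_mul]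

lemma pt_pow_dvd (H : PowerSeries R) (n : ℕ) :
    (PowerSeries.X : DPS R) ^ n ∣ pt H ^ (n + 1) := by
  refine ⟨PowerSeries.X + (n + 1 : ℕ) • (ee * inc H), ?_⟩
  have h2 : (ee * inc H : DPS R) * (ee * inc H) = 0 := by
    have h := ee_mul (R := R)
    linear_combination (inc H * inc H) * h
  induction n with
  | zero => simp [pt]
  | succ n ih =>
    rw [pow_succ, ih, pt]
    simp only [nsmul_eq_mul]
    push_cast
    linear_combination ((PowerSeries.X : DPS R) ^ n * ((n : DPS R) + 1)) * h2

/-- **Taylor's formula** over the dual numbers. -/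
theorem subst_pt (H F : PowerSeries R) : F.subst (pt H) = tay H F := by
  have hs := hasSubst_pt H
  have hpoly : ∀ p : Polynomial R, (p : PowerSeries R).subst (pt H) = tay H (p : PowerSeries R) := by
    intro p
    rw [PowerSeries.subst_coe hs]
    induction p using Polynomial.induction_on' with
    | add p q hp hq => rw [map_add, hp, hq, Polynomial.coe_add, map_add]
    | monomial n r =>
      rw [Polynomial.aeval_monomial, ← Polynomial.C_mul_X_pow_eq_monomial, Polynomial.coe_mul,
        Polynomial.coe_pow, Polynomial.coe_X, Polynomial.coe_C, map_mul, map_pow, tay_X, tay_C,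
        MvPowerSeries.algebraMap_apply]
      rfl
  ext1 n
  obtain ⟨G, hG⟩ : ∃ G, F = ((F.trunc (n + 2) : Polynomial R) : PowerSeries R) +
      PowerSeries.X ^ (n + 2) * G := by
    have : (PowerSeries.X : PowerSeries R) ^ (n + 2) ∣
        F - ((F.trunc (n + 2) : Polynomial R) : PowerSeries R) := by
      rw [PowerSeries.X_pow_dvd_iff]
      intro m hm
      rw [map_sub, Polynomial.coeff_coe, PowerSeries.coeff_trunc, if_pos hm, sub_self]
    obtain ⟨G, hG⟩ := this
    exact ⟨G, by rw [← hG]; ring⟩
  rw [hG, PowerSeries.subst_add hs, map_add, hpoly, PowerSeries.subst_mul hs, (tay H).map_add,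
    (tay H).map_mul, map_add]
  congr 1
  have e1 : (PowerSeries.X ^ (n + 2) : PowerSeries R).subst (pt H) = pt H ^ (n + 2) := by
    rw [PowerSeries.subst_pow hs, PowerSeries.subst_X hs]
  rw [e1, (tay H).map_pow, tay_X]
  obtain ⟨Q, hQ⟩ := pt_pow_dvd H (n + 1)
  have h0 : ∀ Z : DPS R, PowerSeries.coeff n (pt H ^ (n + 2) * Z) = 0 := by
    intro Z
    change PowerSeries.coeff n (pt H ^ (n + 1 + 1) * Z) = 0
    rw [hQ, mul_assoc]
    exact (PowerSeries.X_pow_dvd_iff.mp ⟨Q * Z, rfl⟩) n (Nat.lt_succ_self n)
  rw [h0, h0]

lemma ee_inc_injective {F G : PowerSeries R} (h : ee * inc F = ee * inc G) : F = G := by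
  ext n
  have h1 := congrArg (PowerSeries.coeff n) h
  rw [ee, PowerSeries.coeff_C_mul, PowerSeries.coeff_C_mul, inc, PowerSeries.coeff_map,
    PowerSeries.coeff_map] at h1
  have h2 := congrArg TrivSqZeroExt.snd h1
  simpa using h2

/-- substitution of `ε` -/
lemma subst_ee (F : PowerSeries R) (hs : PowerSeries.HasSubst (ee : DPS R)) :
    F.subst (ee : DPS R) = PowerSeries.C (inl (PowerSeries.coeff 0 F)) +
      ee * PowerSeries.C (inl (PowerSeries.coeff 1 F)) := by
  obtain ⟨G, hG⟩ : ∃ G, F = PowerSeries.C (PowerSeries.coeff 0 F) +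
      PowerSeries.C (PowerSeries.coeff 1 F) * PowerSeries.X + PowerSeries.X ^ 2 * G := by
    have : (PowerSeries.X : PowerSeries R) ^ 2 ∣
        F - (PowerSeries.C (PowerSeries.coeff 0 F) +
          PowerSeries.C (PowerSeries.coeff 1 F) * PowerSeries.X) := by
      rw [PowerSeries.X_pow_dvd_iff]
      intro m hm
      rw [map_sub, map_add, PowerSeries.coeff_C_mul, PowerSeries.coeff_X, PowerSeries.coeff_C]
      interval_cases m <;> simp
    obtain ⟨G, hG⟩ := this
    exact ⟨G, by rw [← hG]; ring⟩
  have hC : ∀ r : R, (PowerSeries.C r : PowerSeries R).subst (ee : DPS R) =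
      PowerSeries.C (inl r : DualNumber R) := by
    intro r
    rw [← Polynomial.coe_C, PowerSeries.subst_coe hs, Polynomial.aeval_C,
      MvPowerSeries.algebraMap_apply]
    rfl
  conv_lhs => rw [hG]
  rw [PowerSeries.subst_add hs, PowerSeries.subst_add hs, PowerSeries.subst_mul hs,
    PowerSeries.subst_mul hs, PowerSeries.subst_pow hs, PowerSeries.subst_X hs, hC, hC, pow_two,
    ee_mul, zero_mul, add_zero, mul_comm (PowerSeries.C _) ee]

lemma subst_X_eq_inc (F : PowerSeries R) : F.subst (PowerSeries.X : DPS R) = inc F := by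
  rw [← PowerSeries.map_algebraMap_eq_subst_X]
  rfl

lemma hasSubst_ee : PowerSeries.HasSubst (ee : DPS R) := by
  refine ⟨2, ?_⟩
  change (PowerSeries.constantCoeff (ee : DPS R)) ^ 2 = 0
  rw [ee, PowerSeries.constantCoeff_C, pow_two, DualNumber.eps_mul_eps]

/-- **The functional equation.** -/
theorem main (F : PowerSeries R)
    (h0 : PowerSeries.constantCoeff F = 1) (ha : IsUnit (PowerSeries.coeff 1 F))
    (hFE : PowerSeries.subst
        (MvPowerSeries.X (0 : Fin 2) + MvPowerSeries.X 1 *
          PowerSeries.subst (MvPowerSeries.X (0 : Fin 2)) F : MvPowerSeries (Fin 2) R) F =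
      PowerSeries.subst (MvPowerSeries.X (0 : Fin 2)) F *
        PowerSeries.subst (MvPowerSeries.X (1 : Fin 2)) F) :
    F = 1 + PowerSeries.C (PowerSeries.coeff 1 F) * PowerSeries.X := by
  set a := PowerSeries.coeff 1 F with hadef
  have hse := hasSubst_ee (R := R)
  have hsX : PowerSeries.HasSubst (PowerSeries.X : DPS R) := PowerSeries.HasSubst.X'
  have hX0 : PowerSeries.HasSubst (MvPowerSeries.X (0 : Fin 2) : MvPowerSeries (Fin 2) R) :=
    PowerSeries.HasSubst.X 0
  have hX1 : PowerSeries.HasSubst (MvPowerSeries.X (1 : Fin 2) : MvPowerSeries (Fin 2) R) :=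
    PowerSeries.HasSubst.X 1
  have hA : PowerSeries.HasSubst (MvPowerSeries.X (0 : Fin 2) + MvPowerSeries.X 1 *
      PowerSeries.subst (MvPowerSeries.X (0 : Fin 2)) F : MvPowerSeries (Fin 2) R) :=
    hX0.add hX1.mul_left
  have hc0 : PowerSeries.coeff 0 F = 1 := by rw [PowerSeries.coeff_zero_eq_constantCoeff]; exact h0
  -- general substitution
  have key : ∀ b : Fin 2 → DPS R, MvPowerSeries.HasSubst b →
      PowerSeries.subst (b 0 + b 1 * PowerSeries.subst (b 0) F) F =
        PowerSeries.subst (b 0) F * PowerSeries.subst (b 1) F := by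
    intro b hb
    have h1 := congrArg (MvPowerSeries.subst b) hFE
    rw [MvPowerSeries.subst_mul hb] at h1
    have hcomp : ∀ (c : MvPowerSeries (Fin 2) R), PowerSeries.HasSubst c → ∀ H : PowerSeries R,
        MvPowerSeries.subst b (PowerSeries.subst c H) =
          PowerSeries.subst (MvPowerSeries.subst b c) H := by
      intro c hc H
      exact MvPowerSeries.subst_comp_subst_apply hc.const hb H
    rw [hcomp _ hA, hcomp _ hX0, hcomp _ hX1, MvPowerSeries.subst_add hb, MvPowerSeries.subst_mul hb,
      hcomp _ hX0, MvPowerSeries.subst_X hb, MvPowerSeries.subst_X hb] at h1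
    exact h1
  have hεF : F.subst (ee : DPS R) = 1 + ee * PowerSeries.C (inl a) := by
    rw [subst_ee F hse, hc0, inl_one, map_one]
  have hinl : ∀ r : R, (PowerSeries.C (inl r : DualNumber R) : DPS R) = inc (PowerSeries.C r) := by
    intro r; simp [inc]
  -- first substitution
  have k1 := key ![PowerSeries.X, ee] (MvPowerSeries.hasSubst_of_constantCoeff_nilpotent (by
    intro s
    fin_cases s
    · exact hsX
    · exact hse))
  simp only [Matrix.cons_val_zero, Matrix.cons_val_one] at k1
  rw [subst_X_eq_inc, hεF] at k1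
  have e1 : (PowerSeries.X + ee * inc F : DPS R) = pt F := rfl
  rw [e1, subst_pt, tay_apply, mul_add, mul_one, add_right_inj, hinl] at k1
  have k1' : PowerSeries.derivative R F * F = F * PowerSeries.C a := by
    apply ee_inc_injective
    rw [k1, map_mul]; ring
  -- second substitution
  have k2 := key ![ee, PowerSeries.X] (MvPowerSeries.hasSubst_of_constantCoeff_nilpotent (by
    intro s
    fin_cases s
    · exact hse
    · exact hsX))
  simp only [Matrix.cons_val_zero, Matrix.cons_val_one] at k2
  rw [subst_X_eq_inc, hεF, hinl] at k2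
  have e2 : (ee + PowerSeries.X * (1 + ee * inc (PowerSeries.C a)) : DPS R) =
      pt (1 + PowerSeries.C a * PowerSeries.X) := by
    rw [pt, map_add, map_mul, map_one]
    have : inc (PowerSeries.X : PowerSeries R) = PowerSeries.X := by simp [inc]
    rw [this]; ring
  rw [e2, subst_pt, tay_apply, add_mul, one_mul, add_right_inj] at k2
  have k2' : PowerSeries.derivative R F * (1 + PowerSeries.C a * PowerSeries.X) =
      PowerSeries.C a * F := by
    apply ee_inc_injective
    rw [k2, map_mul]; ring
  have hF : IsUnit F := by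
    have h : F * PowerSeries.invOfUnit F 1 = 1 := PowerSeries.mul_invOfUnit F 1 h0
    exact IsUnit.of_mul_eq_one _ h
  have k3 : PowerSeries.derivative R F = PowerSeries.C a := by
    apply hF.mul_right_cancel
    rw [k1']; ring
  rw [k3] at k2'
  have hu : IsUnit (PowerSeries.C a : PowerSeries R) := ha.map _
  exact (hu.mul_left_cancel k2').symm

end K215.PSFun
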