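import Mathlib.Algebra.Group.Commute.Units
import Mathlib.Algebra.Ring.Units
import Mathlib.Tactic.Ring
import Mathlib.Tactic.Group
import Mathlib.Tactic.LinearCombination

/-!
# The rank one calculus in an abstract group

`R1 B Γ`: homomorphisms `P, M : B → Γ`, `A : Bˣ → Γ` satisfying the relations of `SL₂`.
-/

set_option autoImplicit false

namespace K215

/-- homomorphisms `P, M : B → Γ`, `A : Bˣ → Γ` satisfying the relations of `SL₂`. -/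
structure R1 (B Γ : Type*) [CommRing B] [Group Γ] where
  P : B → Γ
  M : B → Γ
  A : Bˣ → Γ
  P_add : ∀ x y, P (x + y) = P x * P y
  M_add : ∀ x y, M (x + y) = M x * M y
  A_mul : ∀ x y, A (x * y) = A x * A y
  AP : ∀ (u : Bˣ) (x : B), A u * P x = P (u * u * x) * A u
  AM : ∀ (u : Bˣ) (x : B), A u * M (u * u * x) = M x * A u
  rel : ∀ (x y : B) (v : Bˣ), (v : B) = 1 + x * y →
    P x * M y = M ((v⁻¹ : Bˣ) * y) * A v * P ((v⁻¹ : Bˣ) * x)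

namespace R1

variable {B Γ : Type*} [CommRing B] [Group Γ] (r : R1 B Γ)

lemma P_zero : r.P 0 = 1 := by
  have h := r.P_add 0 0
  rw [add_zero] at h
  exact mul_eq_left.mp h.symm

lemma M_zero : r.M 0 = 1 := by
  have h := r.M_add 0 0
  rw [add_zero] at h
  exact mul_eq_left.mp h.symm

lemma P_neg (x : B) : r.P (-x) = (r.P x)⁻¹ := by
  rw [eq_inv_iff_mul_eq_one, ← r.P_add, neg_add_cancel, r.P_zero]

lemma M_neg (x : B) : r.M (-x) = (r.M x)⁻¹ := by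
  rw [eq_inv_iff_mul_eq_one, ← r.M_add, neg_add_cancel, r.M_zero]

lemma A_one : r.A 1 = 1 := by
  have h := r.A_mul 1 1
  rw [mul_one] at h
  exact mul_eq_left.mp h.symm

lemma A_inv (x : Bˣ) : r.A x⁻¹ = (r.A x)⁻¹ := by
  rw [eq_inv_iff_mul_eq_one, ← r.A_mul, inv_mul_cancel, r.A_one]

lemma A_comm (x y : Bˣ) : r.A x * r.A y = r.A y * r.A x := by
  rw [← r.A_mul, ← r.A_mul, mul_comm]

lemma rel' (x y : B) (v : Bˣ) (hv : (v : B) = 1 + x * y) :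
    r.M y * r.P x = r.P ((v⁻¹ : Bˣ) * x) * (r.A v)⁻¹ * r.M ((v⁻¹ : Bˣ) * y) := by
  have h1 := congrArg (fun g => g⁻¹) (r.rel (-x) (-y) v (by rw [hv]; ring))
  simp only [mul_inv_rev, mul_neg, r.P_neg, r.M_neg, inv_inv] at h1
  rw [h1, mul_assoc]

/-- the opposite system -/
def op : R1 B Γ where
  P := r.M
  M := r.P
  A v := r.A v⁻¹
  P_add := r.M_add
  M_add := r.P_add
  A_mul x y := by rw [mul_inv, r.A_mul]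
  AP u x := by
    have h := r.AM u⁻¹ (u * u * x)
    rw [← h]
    congr 2
    have e : ((u⁻¹ : Bˣ) : B) * u = 1 := Units.inv_mul u
    linear_combination (-(1 : B) - ((u⁻¹ : Bˣ) : B) * u) * x * e
  AM u x := by
    have h := r.AP u⁻¹ (u * u * x)
    rw [h]
    congr 2
    have e : ((u⁻¹ : Bˣ) : B) * u = 1 := Units.inv_mul u
    linear_combination ((1 : B) + ((u⁻¹ : Bˣ) : B) * u) * x * e
  rel x y v hv := by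
    rw [r.rel' y x v (by rw [hv]; ring), r.A_inv]

/-- `w(x) = p₊(x) p₋(-x⁻¹) p₊(x)` -/
def w (x : Bˣ) : Γ := r.P x * r.M (-(x⁻¹ : Bˣ)) * r.P x

/-- `w₋(y) = p₋(y) p₊(-y⁻¹) p₋(y)` -/
def wm (x : Bˣ) : Γ := r.M x * r.P (-(x⁻¹ : Bˣ)) * r.M x

lemma w_neg (x : Bˣ) : r.w (-x) = (r.w x)⁻¹ := by
  unfold w
  rw [inv_neg, Units.val_neg, Units.val_neg, r.P_neg, neg_neg, r.M_neg]
  group

lemma wm_neg (x : Bˣ) : r.wm (-x) = (r.wm x)⁻¹ := by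
  unfold wm
  rw [inv_neg, Units.val_neg, Units.val_neg, r.M_neg, neg_neg, r.P_neg]
  group

lemma A_M (u : Bˣ) (x : B) : r.A u * r.M x = r.M ((u⁻¹ : Bˣ) * (u⁻¹ : Bˣ) * x) * r.A u := by
  rw [← r.AM]
  congr 2
  have e : (u : B) * ((u⁻¹ : Bˣ) : B) = 1 := Units.mul_inv u
  linear_combination (-(1 : B) - (u : B) * ((u⁻¹ : Bˣ) : B)) * x * e

lemma A_w (u x : Bˣ) : r.A u * r.w x = r.w (u * u * x) * r.A u := by
  unfold w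
  have h1 := r.AP u (x : B)
  have h2 := r.A_M u (-(x⁻¹ : Bˣ) : B)
  have e1 : (((u * u * x : Bˣ)) : B) = u * u * x := by push_cast; ring
  have e2 : (-((u * u * x : Bˣ)⁻¹ : Bˣ) : B) = (u⁻¹ : Bˣ) * (u⁻¹ : Bˣ) * (-(x⁻¹ : Bˣ) : B) := by
    rw [mul_inv, mul_inv]; push_cast; ring
  rw [e1, e2]
  calc r.A u * (r.P x * r.M (-(x⁻¹ : Bˣ)) * r.P x)
      = (r.A u * r.P x) * r.M (-(x⁻¹ : Bˣ)) * r.P x := by group
    _ = r.P (u * u * x) * (r.A u * r.M (-(x⁻¹ : Bˣ))) * r.P x := by rw [h1]; group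
    _ = r.P (u * u * x) * r.M ((u⁻¹ : Bˣ) * (u⁻¹ : Bˣ) * (-(x⁻¹ : Bˣ) : B)) * (r.A u * r.P x) := by
        rw [h2]; group
    _ = _ := by rw [h1]; group

/-- `w₋(-1/x) = A(xy) w₋(-y)` -/
lemma wm_eq (x y : Bˣ) : r.wm (-x⁻¹) = r.A (x * y) * r.wm (-y) := by
  have h := r.rel (x : B) ((x⁻¹ : Bˣ) * ((x * y : Bˣ) - 1) : B) (x * y) (by
    rw [Units.mul_inv_cancel_left]; ring)
  have e0 : ((x⁻¹ : Bˣ) : B) * (((x * y : Bˣ) : B) - 1) = -(x⁻¹ : Bˣ) + y := by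
    push_cast
    have e : ((x⁻¹ : Bˣ) : B) * x = 1 := Units.inv_mul x
    linear_combination (y : B) * e
  rw [e0, r.M_add] at h
  have e1 : (((x * y)⁻¹ : Bˣ) : B) * (-(x⁻¹ : Bˣ) + y) =
      -((y⁻¹ : Bˣ) : B) * (x⁻¹ : Bˣ) * (x⁻¹ : Bˣ) + (x⁻¹ : Bˣ) := by
    rw [mul_inv]
    push_cast
    have e : ((y⁻¹ : Bˣ) : B) * y = 1 := Units.inv_mul y
    linear_combination ((x⁻¹ : Bˣ) : B) * e
  have e2 : (((x * y)⁻¹ : Bˣ) : B) * x = (y⁻¹ : Bˣ) := by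
    rw [mul_inv]
    push_cast
    have e : ((x⁻¹ : Bˣ) : B) * x = 1 := Units.inv_mul x
    linear_combination ((y⁻¹ : Bˣ) : B) * e
  rw [e1, e2, add_comm, r.M_add] at h
  -- P x * (M (-x⁻¹) * M y) = M (x⁻¹) * M (-y⁻¹ x⁻¹ x⁻¹) * A (x y) * P (y⁻¹)
  have h2 := r.AM (x * y) (-((y⁻¹ : Bˣ) : B) * (x⁻¹ : Bˣ) * (x⁻¹ : Bˣ))
  have e3 : ((x * y : Bˣ) : B) * (x * y : Bˣ) * (-((y⁻¹ : Bˣ) : B) * (x⁻¹ : Bˣ) * (x⁻¹ : Bˣ)) = -y := by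
    push_cast
    have e : ((x⁻¹ : Bˣ) : B) * x = 1 := Units.inv_mul x
    have e' : ((y⁻¹ : Bˣ) : B) * y = 1 := Units.inv_mul y
    linear_combination (-(y : B) * (((x⁻¹ : Bˣ) : B) * x) * (((x⁻¹ : Bˣ) : B) * x)) * e' +
      (-(y : B) * (1 + ((x⁻¹ : Bˣ) : B) * x)) * e
  rw [e3] at h2
  unfold wm
  simp only [inv_neg, inv_inv, Units.val_neg, neg_neg]
  have h3 : r.P x * r.M (-(x⁻¹ : Bˣ)) = r.M (x⁻¹ : Bˣ) * (r.M (-((y⁻¹ : Bˣ) : B) * (x⁻¹ : Bˣ) * (x⁻¹ : Bˣ)) *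
      r.A (x * y)) * r.P (y⁻¹ : Bˣ) * (r.M y)⁻¹ := by
    rw [eq_mul_inv_iff_mul_eq, mul_assoc, h]; group
  rw [mul_assoc, h3, ← h2, ← r.M_neg, r.M_neg (x⁻¹ : Bˣ)]
  group

lemma wm_mul_wm (x y : Bˣ) : r.wm (-x⁻¹) * r.wm y = r.A (x * y) := by
  rw [r.wm_eq x y, r.wm_neg, inv_mul_cancel_right]

/-- `A(u) w₋(x) = w₋(x) A(u)⁻¹` -/
lemma wm_A (u x : Bˣ) : r.wm x * r.A u = r.A u⁻¹ * r.wm x := by
  -- A(u⁻¹) w₋(x) A(u⁻¹)⁻¹ = w₋(u² x), and w₋ (u² x) = A (u⁻²) w₋ x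
  have h1 := r.op.A_w u x
  have e1 : ∀ z, r.op.w z = r.wm z := fun z => rfl
  have e2 : ∀ z, r.op.A z = r.A z⁻¹ := fun z => rfl
  rw [e1, e1, e2] at h1
  have h2 := r.wm_eq (-(x⁻¹ : Bˣ)) (-(u * u * x))
  have h2' : r.wm x = r.A (u * u) * r.wm (u * u * x) := by
    have : (-(-(x⁻¹ : Bˣ))⁻¹) = x := by simp
    rw [this, neg_neg] at h2
    rw [h2]
    congr 2
    rw [neg_mul_neg, mul_left_comm, inv_mul_cancel, mul_one]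
  -- A u⁻¹ * wm x = wm (u u x) * A u⁻¹
  rw [h1]
  rw [h2']
  have h3 : r.A u⁻¹ * r.wm x = r.A u⁻¹ * (r.A (u * u) * r.wm (u * u * x)) := by rw [← h2']
  rw [h1, ← mul_assoc, ← r.A_mul, inv_mul_cancel_left] at h3
  -- wm(uux) * A u⁻¹ = A u * wm (uux)
  have h4 : r.wm (u * u * x) * r.A u = r.A u⁻¹ * r.wm (u * u * x) := by
    have : r.wm (u * u * x) = r.A u * r.wm (u * u * x) * r.A u := by
      have := congrArg (fun g => g * r.A u) h3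
      rw [mul_assoc, ← r.A_mul, inv_mul_cancel, r.A_one, mul_one] at this
      exact this
    conv_rhs => rw [this]
    rw [← mul_assoc, ← mul_assoc, ← r.A_mul, inv_mul_cancel, r.A_one, one_mul]
  rw [mul_assoc, h4, h3, ← mul_assoc, ← r.A_mul]
  congr 2
  group

/-- `w(x) = w₋(-x⁻¹)` if there is a unit `u` with `1 - u` a unit. -/
lemma w_eq_wm_of (x u u' : Bˣ) (hu : (u' : B) = 1 - u) : r.w x = r.wm (-x⁻¹) := by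
  have h1 := r.rel (x : B) (-(u * x⁻¹ : Bˣ)) u' (by
    rw [hu]
    push_cast
    have e : ((x⁻¹ : Bˣ) : B) * x = 1 := Units.inv_mul x
    linear_combination (u : B) * e)
  have h2 := r.rel' (x : B) (-(u' * x⁻¹ : Bˣ)) u (by
    push_cast
    have e : ((x⁻¹ : Bˣ) : B) * x = 1 := Units.inv_mul x
    rw [hu]
    linear_combination (1 - (u : B)) * e)
  have e0 : (-(x⁻¹ : Bˣ) : B) = -(u * x⁻¹ : Bˣ) + -(u' * x⁻¹ : Bˣ) := by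
    push_cast
    rw [hu]; ring
  unfold w
  rw [e0, r.M_add]
  have h3 : r.P x * (r.M (-(u * x⁻¹ : Bˣ)) * r.M (-(u' * x⁻¹ : Bˣ))) * r.P x =
      (r.P x * r.M (-(u * x⁻¹ : Bˣ))) * (r.M (-(u' * x⁻¹ : Bˣ)) * r.P x) := by group
  rw [h3, h1, h2]
  -- the middle
  have h4 : r.M ((u'⁻¹ : Bˣ) * -(u * x⁻¹ : Bˣ)) * r.A u' * r.P ((u'⁻¹ : Bˣ) * x) *
      (r.P ((u⁻¹ : Bˣ) * x) * (r.A u)⁻¹ * r.M ((u⁻¹ : Bˣ) * -(u' * x⁻¹ : Bˣ))) =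
      r.M ((u'⁻¹ : Bˣ) * -(u * x⁻¹ : Bˣ)) * (r.A u' * r.P ((u'⁻¹ : Bˣ) * x + (u⁻¹ : Bˣ) * x)) *
        (r.A u)⁻¹ * r.M ((u⁻¹ : Bˣ) * -(u' * x⁻¹ : Bˣ)) := by
    rw [r.P_add]; group
  rw [h4, r.AP]
  set ρ : Bˣ := u' * u⁻¹ with hρ
  have h5 : r.M ((u'⁻¹ : Bˣ) * -(u * x⁻¹ : Bˣ)) * (r.P (u' * u' * ((u'⁻¹ : Bˣ) * x + (u⁻¹ : Bˣ) * x)) * r.A u') *
        (r.A u)⁻¹ * r.M ((u⁻¹ : Bˣ) * -(u' * x⁻¹ : Bˣ)) =
      r.M ((u'⁻¹ : Bˣ) * -(u * x⁻¹ : Bˣ)) * r.P (u' * u' * ((u'⁻¹ : Bˣ) * x + (u⁻¹ : Bˣ) * x)) *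
        (r.A ρ * r.M ((u⁻¹ : Bˣ) * -(u' * x⁻¹ : Bˣ))) := by
    rw [hρ, r.A_mul, r.A_inv]; group
  rw [h5, r.A_M]
  have eu : ((u⁻¹ : Bˣ) : B) * u = 1 := Units.inv_mul u
  have eu' : ((u'⁻¹ : Bˣ) : B) * u' = 1 := Units.inv_mul u'
  have f1 : ((u'⁻¹ : Bˣ) : B) * -(u * x⁻¹ : Bˣ) = (-(x * ρ)⁻¹ : Bˣ) := by
    rw [hρ, mul_inv, mul_inv, inv_inv]; push_cast; ring
  have f2 : (u' : B) * u' * ((u'⁻¹ : Bˣ) * x + (u⁻¹ : Bˣ) * x) = (x * ρ : Bˣ) := by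
    rw [hρ]
    push_cast
    have : (1 : B) = u + u' := by rw [hu]; ring
    have h6 : (u' : B) * u' * ((u'⁻¹ : Bˣ) * x + (u⁻¹ : Bˣ) * x) =
      u' * x * (((u'⁻¹ : Bˣ) : B) * u' + u' * (u⁻¹ : Bˣ)) := by ring
    rw [h6, eu']
    have h7 : (1 : B) + u' * (u⁻¹ : Bˣ) = (u⁻¹ : Bˣ) := by
      rw [← eu]
      linear_combination (-((u⁻¹ : Bˣ) : B)) * this
    rw [h7]; ring
  have f3 : ((ρ⁻¹ : Bˣ) : B) * (ρ⁻¹ : Bˣ) * ((u⁻¹ : Bˣ) * -(u' * x⁻¹ : Bˣ)) = (-(x * ρ)⁻¹ : Bˣ) := by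
    have hρ' : ρ⁻¹ = u * u'⁻¹ := by rw [hρ, mul_inv, inv_inv, mul_comm]
    clear_value ρ
    rw [mul_inv, hρ']
    push_cast
    linear_combination (-((u'⁻¹ : Bˣ) : B) * ((u'⁻¹ : Bˣ) : B) * u * u' * ((x⁻¹ : Bˣ) : B)) * eu +
      (-((u'⁻¹ : Bˣ) : B) * u * ((x⁻¹ : Bˣ) : B)) * eu'
  rw [f1, f2, f3]
  have h8 : r.M ((-(x * ρ)⁻¹ : Bˣ) : B) * r.P ((x * ρ : Bˣ) : B) *
      (r.M ((-(x * ρ)⁻¹ : Bˣ) : B) * r.A ρ) = r.wm (-(x * ρ)⁻¹) * r.A ρ := by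
    unfold wm
    have : ((-(-(x * ρ)⁻¹ : Bˣ)⁻¹ : Bˣ) : B) = (x * ρ : Bˣ) := by simp
    rw [← Units.val_neg, this]; group
  rw [h8]
  -- wm (-(xρ)⁻¹) = A ρ * wm (-x⁻¹)
  have h9 : r.wm (-(x * ρ)⁻¹) = r.A ρ * r.wm (-x⁻¹) := by
    have := r.wm_eq (x * ρ) x⁻¹
    rw [this]
    congr 2
    rw [mul_right_comm, mul_inv_cancel, one_mul]
  rw [h9, mul_assoc, r.wm_A, ← mul_assoc, ← r.A_mul, mul_inv_cancel, r.A_one, one_mul]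

end R1

end K215
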