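import Groth.Agent.Red.K215.R1Ext
import Groth.Agent.Red.K212.Rescale

/-!
# Rank one systems: the root groups and Borel subgroups are closed
-/

set_option autoImplicit false
set_option maxHeartbeats 400000
universe u
open CategoryTheory MonoidalCategory CartesianMonoidalCategory MonObj GrpObj AlgebraicGeometry Limits

namespace K215.R1Closed

open Groth.Agent.Sga3B.DSPts Groth.Agent.Sga3B.GaPts Groth.Agent.Sga3.H811.Pts K212.R1Alg K212.R1Mk
open K212.Gen K212.R1Conj K212.Weight K212.Fn K212.Kpt K212.R1Geo K215.R1Ext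

variable {S : Scheme.{u}}

instance isAffineHom_Ga : IsAffineHom (Red.Ga S).hom := by
  have h : IsAffineHom (Red.GaZ.{u}).hom := by
    change IsAffineHom (Spec.map _)
    infer_instance
  exact MorphismProperty.pullback_snd (P := @IsAffineHom) _ _ h

lemma isSeparated_tensor (A B : Over S) (hA : IsSeparated A.hom) (hB : IsSeparated B.hom) :
    IsSeparated (A ⊗ B).hom := by
  have h1 : (fst A B).left ≫ A.hom = (A ⊗ B).hom := Over.w _
  have h2 : IsSeparated (pullback.fst A.hom B.hom) := inferInstance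
  have h3 : IsSeparated (fst A B).left := h2
  rw [← h1]
  infer_instance

lemma isSeparated_left {A B : Over S} (f : A ⟶ B) (hA : IsSeparated A.hom) : IsSeparated f.left := by
  have h1 : f.left ≫ B.hom = A.hom := Over.w _
  have : IsSeparated (f.left ≫ B.hom) := by rw [h1]; exact hA
  exact IsSeparated.of_comp f.left B.hom

/-- a section of a morphism from a separated object is a closed immersion -/
lemma isClosedImmersion_of_section {A B : Over S} (s : A ⟶ B) (r : B ⟶ A) (h : s ≫ r = 𝟙 A)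
    (hB : IsSeparated B.hom) : IsClosedImmersion s.left := by
  have h1 : s.left ≫ r.left = 𝟙 _ := by rw [← Over.comp_left, h, Over.id_left]
  have h2 : IsClosedImmersion (s.left ≫ r.left) := by rw [h1]; infer_instance
  have h3 : IsSeparated r.left := isSeparated_left r hB
  exact IsClosedImmersion.of_comp s.left r.left

variable {G T : Over S} [GrpObj G] [GrpObj T]
  {i : T ⟶ G} {α : T ⟶ Red.Gm S} {pp pm : Red.Ga S ⟶ G} {av : Red.Gm S ⟶ T}
  (H : R1Hyp i α pp pm av) (hΩ : IsOpenImmersion (cell i pp pm).left)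

/-- `(t, x) ↦ (0, t, x)` -/
noncomputable def sg : T ⊗ Red.Ga S ⟶ (Red.Ga S ⊗ T) ⊗ Red.Ga S :=
  lift (lift (gaPt _ 0) (fst _ _)) (snd _ _)

/-- `(t, x) ↦ i(t) p₊(x)` -/
noncomputable def bp (i : T ⟶ G) (pp : Red.Ga S ⟶ G) : T ⊗ Red.Ga S ⟶ G := (i ⊗ₘ pp) ≫ μ[G]

lemma comp_bp {X : Over S} (z : X ⟶ T ⊗ Red.Ga S) (pp : Red.Ga S ⟶ G) :
    z ≫ bp i pp = ((z ≫ fst _ _) ≫ i) * ((z ≫ snd _ _) ≫ pp) := by
  have h1 : z = lift (z ≫ fst _ _) (z ≫ snd _ _) := by
    apply CartesianMonoidalCategory.hom_ext <;> simp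
  rw [Hom.mul_def, bp]
  nth_rewrite 1 [h1]
  rw [← Category.assoc, lift_map]

include H in
lemma sg_cell : sg ≫ cell i pp pm = bp i pp := by
  have h1 := comp_bp (i := i) (𝟙 (T ⊗ Red.Ga S)) pp
  rw [Category.id_comp, Category.id_comp, Category.id_comp] at h1
  rw [sg, lift_cell, h1]
  have h2 : (gaPt (T ⊗ Red.Ga S) 0) ≫ pm = 1 := (H.sys _).q_zero
  rw [h2, _root_.one_mul]

include H in
lemma comp_bp_cel {X : Over S} (z : X ⟶ T ⊗ Red.Ga S) :
    z ≫ bp i pp = cel H 0 (z ≫ fst _ _) (Red.gaFn (z ≫ snd _ _)) := by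
  rw [comp_bp, cel, R1.q_zero, _root_.one_mul, comp_pp H]
  rfl

variable (hT : IsSeparated T.hom)

include hT in
lemma isClosedImmersion_sg : IsClosedImmersion (sg (T := T)).left := by
  refine isClosedImmersion_of_section sg (lift (fst _ _ ≫ snd _ _) (snd _ _)) ?_ ?_
  · rw [sg]
    apply CartesianMonoidalCategory.hom_ext <;> simp
  · exact isSeparated_tensor _ _ (isSeparated_tensor _ _ inferInstance hT) inferInstance

variable [LocallyOfFiniteType G.hom] (hirr : ∀ s : S, IrreducibleSpace (Red.geomFibre s G).left)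

include hΩ in
omit [LocallyOfFiniteType G.hom] in
/-- the Borel subgroup does not meet `wΩ` -/
lemma not_mem_wcell {u : G.left} (h1 : u ∈ Set.range (bp i pp).left)
    (h2 : u ∈ Set.range (wcell H).left) : False := by
  obtain ⟨τ, rfl⟩ := h1
  set X := rp (T ⊗ Red.Ga S) τ with hX
  let k : X ⟶ T ⊗ Red.Ga S := rf (T ⊗ Red.Ga S) τ
  obtain ⟨z⟩ := (isFld_rp (T ⊗ Red.Ga S) τ).ne
  have hr : Set.range (k ≫ bp i pp).left ⊆ Set.range (wcell H).left := by
    rintro _ ⟨y, rfl⟩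
    rw [Over.comp_left, Scheme.Hom.comp_apply]
    have h3 : k.left y = τ := rf_apply y
    rw [h3]
    exact h2
  have hw := isOpenImmersion_wcell H hΩ
  obtain ⟨v, hv⟩ : ∃ v : X ⟶ (Red.Ga S ⊗ T) ⊗ Red.Ga S, v ≫ wcell H = k ≫ bp i pp := by
    let l := IsOpenImmersion.lift (wcell H).left (k ≫ bp i pp).left hr
    have hl : l ≫ (wcell H).left = (k ≫ bp i pp).left := IsOpenImmersion.lift_fac _ _ _
    refine ⟨Over.homMk l ?_, ?_⟩
    · rw [← Over.w (wcell H), ← Category.assoc, hl, Over.w]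
    · ext1
      exact hl
  have h3 : v ≫ wcell H = (H.sys X).w 1 * cel H (Red.gaFn (v ≫ fst _ _ ≫ fst _ _))
      (v ≫ fst _ _ ≫ snd _ _) (Red.gaFn (v ≫ snd _ _)) := comp_piece_false H v
  rw [h3, comp_bp_cel H] at hv
  obtain ⟨c, hc⟩ := isUnit_of_w_cel H hΩ ⟨0, _, _, hv⟩
  rw [← hc, w_cel H] at hv
  obtain ⟨h4, -, -⟩ := cell_inj H hΩ hv
  have h5 : ((c⁻¹ : Γ(X.left, ⊤)ˣ) : Γ(X.left, ⊤)) = 0 := by rw [← neg_eq_zero]; exact h4
  have h6 := (c⁻¹).isUnit
  rw [h5] at h6
  exact K212.Fn.not_isUnit_zero z h6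

include hΩ hirr hT H in
/-- **`T U₊` is closed.** -/
theorem isClosedImmersion_bp : IsClosedImmersion (bp i pp).left := by
  have h1 : (bp i pp).left = (sg (T := T)).left ≫ (cell i pp pm).left := by
    rw [← Over.comp_left, sg_cell H]
  have h2 := isClosedImmersion_sg hT
  have h3 : IsPreimmersion (bp i pp).left := by
    rw [h1]
    infer_instance
  refine IsClosedImmersion.of_isPreimmersion _ ?_
  have hw := isOpenImmersion_wcell H hΩ
  have h4 : (Set.range (bp i pp).left)ᶜ = Set.range (wcell H).left ∪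
      (cell i pp pm).left '' (Set.range (sg (T := T)).left)ᶜ := by
    ext u
    constructor
    · intro hu
      rcases cover H hΩ hirr u with ⟨v, rfl⟩ | hy
      · right
        refine ⟨v, ?_, rfl⟩
        rintro ⟨τ, rfl⟩
        apply hu
        exact ⟨τ, by rw [h1, Scheme.Hom.comp_apply]⟩
      · left
        obtain ⟨y, hy⟩ := hy
        exact ⟨y, wcell_apply H hy⟩
    · rintro (hu | ⟨v, hv, rfl⟩) hu'
      · exact not_mem_wcell H hΩ hu' hu
      · obtain ⟨τ, hτ⟩ := hu'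
        rw [h1, Scheme.Hom.comp_apply] at hτ
        have h5 := (cell i pp pm).left.isOpenEmbedding.injective hτ
        exact hv ⟨τ, h5⟩
  rw [← isOpen_compl_iff, h4]
  refine IsOpen.union hw.isOpen_range ?_
  exact (cell i pp pm).left.isOpenEmbedding.isOpenMap _
    ((sg (T := T)).left.isClosedEmbedding.isClosed_range.isOpen_compl)

include hΩ hirr hT H in
/-- **`U₊` is closed.** -/
theorem isClosedImmersion_pp : IsClosedImmersion pp.left := by
  have h1 : lift (1 : Red.Ga S ⟶ T) (𝟙 _) ≫ bp i pp = pp := by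
    have hmi := H.mi
    rw [comp_bp, lift_fst, lift_snd, MonObj.one_comp, _root_.one_mul, Category.id_comp]
  have h2 : IsClosedImmersion (lift (1 : Red.Ga S ⟶ T) (𝟙 _)).left :=
    isClosedImmersion_of_section _ (snd _ _) (lift_snd _ _) (isSeparated_tensor _ _ hT inferInstance)
  have h3 := isClosedImmersion_bp H hΩ hT hirr
  have h4 : pp.left = (lift (1 : Red.Ga S ⟶ T) (𝟙 _)).left ≫ (bp i pp).left := by
    rw [← Over.comp_left, h1]
  rw [h4]
  infer_instance

/-- conjugation by `w₀` -/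
noncomputable def cw : G ⟶ G := (toUnit _ ≫ w₀ H) * 𝟙 G * (toUnit _ ≫ w₀ H)⁻¹

/-- conjugation by `w₀⁻¹` -/
noncomputable def cw' : G ⟶ G := (toUnit _ ≫ w₀ H)⁻¹ * 𝟙 G * (toUnit _ ≫ w₀ H)

omit [LocallyOfFiniteType G.hom] in
lemma comp_cw {X : Over S} (g : X ⟶ G) : g ≫ cw H = (H.sys X).w 1 * g * ((H.sys X).w 1)⁻¹ := by
  rw [cw, MonObj.comp_mul, MonObj.comp_mul, Category.comp_id, GrpObj.comp_inv, ← Category.assoc,
    toUnit_unique (g ≫ toUnit _) (toUnit _), toUnit_w₀]

omit [LocallyOfFiniteType G.hom] in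
lemma comp_cw' {X : Over S} (g : X ⟶ G) : g ≫ cw' H = ((H.sys X).w 1)⁻¹ * g * (H.sys X).w 1 := by
  rw [cw', MonObj.comp_mul, MonObj.comp_mul, Category.comp_id, GrpObj.comp_inv, ← Category.assoc,
    toUnit_unique (g ≫ toUnit _) (toUnit _), toUnit_w₀]

omit [LocallyOfFiniteType G.hom] in
lemma isIso_cw : IsIso (cw H) := by
  refine ⟨⟨cw' H, ?_, ?_⟩⟩
  · have h1 := comp_cw H (𝟙 G)
    rw [Category.id_comp] at h1
    rw [comp_cw', h1]
    group
  · have h1 := comp_cw' H (𝟙 G)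
    rw [Category.id_comp] at h1
    rw [comp_cw, h1]
    group

/-- the reflection on `T` -/
noncomputable def rfl' (α : T ⟶ Red.Gm S) (av : Red.Gm S ⟶ T) : T ⟶ T := (α ≫ av)⁻¹ * 𝟙 T

omit [LocallyOfFiniteType G.hom] in
lemma comp_rfl' {X : Over S} (t : X ⟶ T) :
    t ≫ rfl' α av = ((H.sys X).av ((H.sys X).ch t))⁻¹ * t := by
  rw [rfl', MonObj.comp_mul, Category.comp_id, GrpObj.comp_inv, ← Category.assoc, comp_av H]
  rfl

omit [LocallyOfFiniteType G.hom] in
include H in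
lemma rfl'_rfl' {X : Over S} (t : X ⟶ T) : (t ≫ rfl' α av) ≫ rfl' α av = t := by
  rw [comp_rfl' H, comp_rfl' H]
  set D := H.sys X
  have h1 : D.ch ((D.av (D.ch t))⁻¹ * t) = (D.ch t)⁻¹ := by
    rw [map_mul, map_inv, D.ch_av, pow_two]
    group
  rw [h1, map_inv, _root_.inv_inv, mul_inv_cancel_left]

/-- `(t, y) ↦ (s(t), -y)` -/
noncomputable def phi (α : T ⟶ Red.Gm S) (av : Red.Gm S ⟶ T) : T ⊗ Red.Ga S ⟶ T ⊗ Red.Ga S :=
  lift (fst _ _ ≫ rfl' α av) (gaPt _ (-(Red.gaFn (snd T (Red.Ga S)))))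

omit [GrpObj G] [LocallyOfFiniteType G.hom] in
lemma comp_phi {X : Over S} (z : X ⟶ T ⊗ Red.Ga S) :
    z ≫ phi α av = lift ((z ≫ fst _ _) ≫ rfl' α av) (gaPt X (-(Red.gaFn (z ≫ snd _ _)))) := by
  rw [phi, comp_lift, comp_gaPt, map_neg, ← gaFn_comp, Category.assoc]

omit [LocallyOfFiniteType G.hom] in
include H in
lemma isIso_phi : IsIso (phi α av) := by
  have h1 : phi α av ≫ phi α av = 𝟙 _ := by
    rw [comp_phi]
    apply CartesianMonoidalCategory.hom_ext
    · rw [lift_fst, Category.id_comp, phi, lift_fst, rfl'_rfl' H]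
    · rw [lift_snd, Category.id_comp, phi, lift_snd, gaFn_gaPt, neg_neg, gaPt_gaFn]
  exact ⟨⟨phi α av, h1, h1⟩⟩

omit [LocallyOfFiniteType G.hom] in
lemma phi_bp_cw : phi α av ≫ bp i pp ≫ cw H = bp i pm := by
  have h1 := comp_bp (i := i) (𝟙 (T ⊗ Red.Ga S)) pm
  rw [Category.id_comp, Category.id_comp, Category.id_comp] at h1
  rw [← Category.assoc, comp_cw, comp_bp, h1, phi, lift_fst, lift_snd]
  set X := T ⊗ Red.Ga S
  set D := H.sys X with hD
  have e1 : ((fst T (Red.Ga S) ≫ rfl' α av) ≫ i) = D.t ((D.av (D.ch (fst T (Red.Ga S))))⁻¹ * fst T (Red.Ga S)) := by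
    rw [comp_rfl' H]; rfl
  have e2 : gaPt X (-(Red.gaFn (snd T (Red.Ga S)))) ≫ pp = D.p (-(Red.gaFn (snd T (Red.Ga S)))) := rfl
  have e3 : fst T (Red.Ga S) ≫ i = D.t (fst T (Red.Ga S)) := rfl
  have e4 : snd T (Red.Ga S) ≫ pm = D.q (Red.gaFn (snd T (Red.Ga S))) := comp_pm H _
  rw [e1, e2, e3, e4]
  have e5 := t_w' (H := H) (fst T (Red.Ga S))
  have e6 := q_w (H := H) (Red.gaFn (snd T (Red.Ga S)))
  rw [mul_inv_eq_iff_eq_mul, ← _root_.mul_assoc, ← e5, _root_.mul_assoc, ← e6, _root_.mul_assoc]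

include hΩ hirr hT H in
/-- **`T U₋` is closed.** -/
theorem isClosedImmersion_bm : IsClosedImmersion (bp i pm).left := by
  have h1 := isIso_phi H
  have h2 := isIso_cw H
  have h3 : IsIso (phi α av).left := inferInstanceAs (IsIso ((Over.forget S).map (phi α av)))
  have h4 : IsIso (cw H).left := inferInstanceAs (IsIso ((Over.forget S).map (cw H)))
  have h5 := isClosedImmersion_bp H hΩ hT hirr
  have h6 : (bp i pm).left = (phi α av).left ≫ (bp i pp).left ≫ (cw H).left := by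
    rw [← Over.comp_left, ← Over.comp_left, phi_bp_cw]
  rw [h6]
  infer_instance

include hΩ hirr hT H in
/-- **`U₋` is closed.** -/
theorem isClosedImmersion_pm : IsClosedImmersion pm.left := by
  have h1 : lift (1 : Red.Ga S ⟶ T) (𝟙 _) ≫ bp i pm = pm := by
    have hmi := H.mi
    rw [comp_bp, lift_fst, lift_snd, MonObj.one_comp, _root_.one_mul, Category.id_comp]
  have h2 : IsClosedImmersion (lift (1 : Red.Ga S ⟶ T) (𝟙 _)).left :=
    isClosedImmersion_of_section _ (snd _ _) (lift_snd _ _) (isSeparated_tensor _ _ hT inferInstance)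
  have h3 := isClosedImmersion_bm H hΩ hT hirr
  have h4 : pm.left = (lift (1 : Red.Ga S ⟶ T) (𝟙 _)).left ≫ (bp i pm).left := by
    rw [← Over.comp_left, h1]
  rw [h4]
  infer_instance

end K215.R1Closed
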