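import Groth.Agent.Red.K215.R1Ext
import Groth.Agent.Sga3.H811.Main

/-!
# Generators and relations for rank one systems

From a torus `T` with a root and coroot, homomorphisms `j : T ⟶ L`, `r : 𝔾_a ⟶ L` and a point `h` of
`L` satisfying `t r(x) t⁻¹ = r(α(t) x)`, `h t h⁻¹ = t α^*(α(t))⁻¹`, `h² = α^*(-1)`, `(h r(1))³ = 1`,
we get the rank one relations for `j, r` and `r₋(y) = h r(-y) h⁻¹`.
-/

set_option autoImplicit false
set_option maxHeartbeats 400000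
universe u

namespace K215.R1Gen

/-- the relations, on points -/
structure Gen (B Gr Tr : Type*) [CommRing B] [Group Gr] [Group Tr] where
  P : B → Gr
  t : Tr →* Gr
  ch : Tr →* Bˣ
  av : Bˣ →* Tr
  W : Gr
  tcomm : ∀ s s' : Tr, s * s' = s' * s
  P_add : ∀ x y, P (x + y) = P x * P y
  tP : ∀ s x, t s * P x = P (ch s * x) * t s
  ch_av : ∀ z, ch (av z) = z ^ 2
  r2 : ∀ s, W * t s * W⁻¹ = t (s * (av (ch s))⁻¹)
  r3 : W * W = t (av (-1))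
  r4 : (W * P 1) ^ 3 = 1

namespace Gen

variable {B Gr Tr : Type*} [CommRing B] [Group Gr] [Group Tr] (D : Gen B Gr Tr)

/-- the opposite root group -/
def Q (y : B) : Gr := D.W * D.P (-y) * D.W⁻¹

lemma P_zero : D.P 0 = 1 := by
  have h := D.P_add 0 0
  rw [add_zero] at h
  exact mul_eq_left.mp h.symm

lemma P_neg (x : B) : D.P (-x) = (D.P x)⁻¹ := by
  rw [eq_inv_iff_mul_eq_one, ← D.P_add, neg_add_cancel, D.P_zero]

lemma Q_add (x y : B) : D.Q (x + y) = D.Q x * D.Q y := by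
  rw [Q, Q, Q, neg_add, D.P_add]
  group

lemma P_t (s : Tr) (x : B) : D.P x * D.t s = D.t s * D.P (((D.ch s)⁻¹ : Bˣ) * x) := by
  rw [D.tP, ← mul_assoc, Units.mul_inv, one_mul]

/-- `t(av z) P(x) = P(z² x) t(av z)` -/
lemma hP (z : Bˣ) (x : B) : D.t (D.av z) * D.P x = D.P ((z : B) ^ 2 * x) * D.t (D.av z) := by
  rw [D.tP, D.ch_av, Units.val_pow_eq_pow_val]

lemma Ph (z : Bˣ) (x : B) : D.P x * D.t (D.av z) = D.t (D.av z) * D.P (((z⁻¹ : Bˣ) : B) ^ 2 * x) := by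
  rw [hP, ← mul_assoc, ← mul_pow, Units.mul_inv, one_pow, one_mul]

/-- `W t(av z) = t(av z)⁻¹ W` -/
lemma W_h (z : Bˣ) : D.W * D.t (D.av z) = D.t (D.av z⁻¹) * D.W := by
  have h1 := D.r2 (D.av z)
  rw [D.ch_av, mul_inv_eq_iff_eq_mul] at h1
  rw [h1]
  congr 2
  rw [← map_inv, ← map_mul, pow_two]
  congr 1
  group

/-- `W s = s' W` where `ch s' = (ch s)⁻¹` -/
lemma ch_refl (s : Tr) : D.ch (s * (D.av (D.ch s))⁻¹) = (D.ch s)⁻¹ := by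
  rw [map_mul, map_inv, D.ch_av, pow_two]
  group

lemma refl_refl (s : Tr) : (s * (D.av (D.ch s))⁻¹) * (D.av (D.ch (s * (D.av (D.ch s))⁻¹)))⁻¹ = s := by
  rw [ch_refl, map_inv, inv_inv, inv_mul_cancel_right]

lemma W_t (s : Tr) : D.W * D.t s = D.t (s * (D.av (D.ch s))⁻¹) * D.W := by
  have h1 := D.r2 s
  rwa [mul_inv_eq_iff_eq_mul] at h1

lemma t_W (s : Tr) : D.t s * D.W = D.W * D.t (s * (D.av (D.ch s))⁻¹) := by
  rw [W_t, refl_refl]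

/-- the torus acts on the opposite root group -/
lemma tQ (s : Tr) (y : B) : D.t s * D.Q y = D.Q (((D.ch s)⁻¹ : Bˣ) * y) * D.t s := by
  have h1 : D.W⁻¹ * D.t s = D.t (s * (D.av (D.ch s))⁻¹) * D.W⁻¹ := by
    rw [inv_mul_eq_iff_eq_mul, ← mul_assoc, ← t_W, mul_inv_cancel_right]
  rw [Q, Q, ← mul_assoc, ← mul_assoc, t_W, mul_assoc D.W, D.tP, ch_refl, mul_assoc _ D.W⁻¹, h1]
  rw [mul_neg]
  group

lemma e_sq : D.t (D.av (-1)) * D.t (D.av (-1)) = 1 := by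
  rw [← map_mul, ← map_mul, neg_mul_neg, one_mul, map_one, map_one]

/-- `W = P(1) Q(-1) P(1)` -/
lemma W_eq : D.W = D.P 1 * D.Q (-1) * D.P 1 := by
  have h4 := D.r4
  have he : D.t (D.av (-1)) * D.P 1 = D.P 1 * D.t (D.av (-1)) := by
    rw [hP]; simp
  have hWi : D.W⁻¹ = D.t (D.av (-1)) * D.W := by
    have h1 := D.r3
    have h2 : D.W = D.t (D.av (-1)) * D.W⁻¹ := by rw [← h1]; group
    have h3 := D.e_sq
    calc D.W⁻¹ = D.t (D.av (-1)) * (D.t (D.av (-1)) * D.W⁻¹) := by rw [← mul_assoc, h3, one_mul]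
      _ = _ := by rw [← h2]
  have hWe : D.W * D.t (D.av (-1)) = D.t (D.av (-1)) * D.W := by
    rw [W_h]; simp
  -- `Q(-1) = W P(1) W⁻¹ = ε W P(1) W`
  have h5 : D.Q (-1) = D.t (D.av (-1)) * (D.W * D.P 1 * D.W) := by
    rw [Q, neg_neg, hWi, mul_assoc D.W, ← mul_assoc (D.P 1), ← he, mul_assoc, ← mul_assoc D.W, hWe]
    group
  have h6 : D.W * D.P 1 * D.W = (D.P 1)⁻¹ * D.W⁻¹ * (D.P 1)⁻¹ := by
    have h7 : (D.W * D.P 1 * D.W) * (D.P 1 * D.W * D.P 1) = 1 := by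
      rw [← h4, pow_three']; simp only [mul_assoc]
    rw [mul_eq_one_iff_eq_inv] at h7
    rw [h7]; group
  rw [h5, h6, hWi]
  have h8 : D.t (D.av (-1)) * ((D.P 1)⁻¹ * (D.t (D.av (-1)) * D.W) * (D.P 1)⁻¹) =
      (D.P 1)⁻¹ * (D.t (D.av (-1)) * D.t (D.av (-1))) * D.W * (D.P 1)⁻¹ := by
    have h9 : D.t (D.av (-1)) * (D.P 1)⁻¹ = (D.P 1)⁻¹ * D.t (D.av (-1)) := by
      rw [mul_inv_eq_iff_eq_mul, mul_assoc, he]; group
    rw [mul_assoc (D.P 1)⁻¹, ← mul_assoc, h9]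
    simp only [mul_assoc]
  rw [h8, e_sq, mul_one]
  group

/-- the key relation at squares -/
lemma sq_rel (z x : Bˣ) (hx : x = z ^ 2) :
    D.t (D.av x) * D.W = D.P x * D.Q (-((x⁻¹ : Bˣ) : B)) * D.P x := by
  subst hx
  have h1 : D.t (D.av z) * D.W * (D.t (D.av z))⁻¹ = D.t (D.av (z ^ 2)) * D.W := by
    rw [mul_inv_eq_iff_eq_mul, mul_assoc _ D.W, W_h, ← mul_assoc, ← map_mul, ← map_mul]
    congr 3
    rw [pow_two]; group
  rw [← h1]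
  nth_rw 1 [D.W_eq]
  have h2 : D.t (D.av z) * (D.P 1 * D.Q (-1) * D.P 1) =
      D.P ((z : B) ^ 2) * D.Q (-(((z ^ 2)⁻¹ : Bˣ) : B)) * D.P ((z : B) ^ 2) * D.t (D.av z) := by
    rw [← mul_assoc, ← mul_assoc, hP, mul_assoc _ (D.t _) (D.Q _), tQ, D.ch_av,
      ← mul_assoc, mul_assoc _ (D.t _) (D.P _), hP, mul_one, mul_neg_one]
    simp only [mul_assoc]
  rw [h2, mul_inv_cancel_right, Units.val_pow_eq_pow_val]

section rel

variable (hall : ∀ x : Bˣ, D.t (D.av x) * D.W = D.P x * D.Q (-((x⁻¹ : Bˣ) : B)) * D.P x)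

include hall

/-- `Q` at a unit -/
lemma Q_unit (y : Bˣ) : D.Q y = D.P ((y⁻¹ : Bˣ) : B) * (D.t (D.av (-y⁻¹)) * D.W) * D.P ((y⁻¹ : Bˣ) : B) := by
  have h1 := hall (-y⁻¹)
  have e1 : -(((-y⁻¹ : Bˣ)⁻¹ : Bˣ) : B) = y := by
    rw [inv_neg, inv_inv, Units.val_neg, neg_neg]
  have e2 : ((-y⁻¹ : Bˣ) : B) = -((y⁻¹ : Bˣ) : B) := Units.val_neg _
  rw [e1, e2] at h1
  rw [h1, D.P_neg]
  group

/-- the commutation rule at a unit -/
lemma F_unit (x : B) (y z : Bˣ) (hz : (z : B) = 1 + x * y) :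
    D.P x * D.Q y = D.Q ((z⁻¹ : Bˣ) * y) * D.t (D.av z) * D.P ((z⁻¹ : Bˣ) * x) := by
  have hzi := Units.mul_inv z
  have hyi := Units.mul_inv y
  have e1 : ((z⁻¹ : Bˣ) : B) * (y : B) = ((z⁻¹ * y : Bˣ) : B) := (Units.val_mul _ _).symm
  rw [e1, D.Q_unit hall y, D.Q_unit hall (z⁻¹ * y)]
  have e2 : (z⁻¹ * y)⁻¹ = z * y⁻¹ := by rw [mul_inv_rev, inv_inv, mul_comm]
  have e3 : ((z * y⁻¹ : Bˣ) : B) = x + ((y⁻¹ : Bˣ) : B) := by
    rw [Units.val_mul]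
    linear_combination ((y⁻¹ : Bˣ) : B) * hz + x * hyi
  rw [e2, e3]
  -- the right side
  have h1 : D.P (x + ((y⁻¹ : Bˣ) : B)) * D.t (D.av z) =
      D.t (D.av z) * D.P (((z⁻¹ : Bˣ) : B) ^ 2 * (x + ((y⁻¹ : Bˣ) : B))) := D.Ph z _
  have h2 : D.P (((z⁻¹ : Bˣ) : B) ^ 2 * (x + ((y⁻¹ : Bˣ) : B))) * D.P ((z⁻¹ : Bˣ) * x) =
      D.P ((y⁻¹ : Bˣ) : B) := by
    rw [← D.P_add]
    congr 1
    rw [← e3, Units.val_mul]
    linear_combination (((z⁻¹ : Bˣ) : B) * ((y⁻¹ : Bˣ) : B) + ((y⁻¹ : Bˣ) : B)) * hzi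
      - ((z⁻¹ : Bˣ) : B) * ((y⁻¹ : Bˣ) : B) * hz - ((z⁻¹ : Bˣ) : B) * x * hyi
  have h3 : D.t (D.av (-(z * y⁻¹))) * D.W * D.t (D.av z) = D.t (D.av (-y⁻¹)) * D.W := by
    rw [mul_assoc, W_h, ← mul_assoc, ← map_mul, ← map_mul]
    congr 3
    rw [← mul_neg, mul_comm z, mul_inv_cancel_right]
  calc D.P x * (D.P ((y⁻¹ : Bˣ) : B) * (D.t (D.av (-y⁻¹)) * D.W) * D.P ((y⁻¹ : Bˣ) : B))
      = D.P (x + ((y⁻¹ : Bˣ) : B)) * (D.t (D.av (-y⁻¹)) * D.W) * D.P ((y⁻¹ : Bˣ) : B) := by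
        rw [D.P_add]; group
    _ = D.P (x + ((y⁻¹ : Bˣ) : B)) * (D.t (D.av (-(z * y⁻¹))) * D.W * D.t (D.av z)) *
          (D.P (((z⁻¹ : Bˣ) : B) ^ 2 * (x + ((y⁻¹ : Bˣ) : B))) * D.P ((z⁻¹ : Bˣ) * x)) := by rw [h3, h2]
    _ = D.P (x + ((y⁻¹ : Bˣ) : B)) * (D.t (D.av (-(z * y⁻¹))) * D.W) *
          (D.t (D.av z) * D.P (((z⁻¹ : Bˣ) : B) ^ 2 * (x + ((y⁻¹ : Bˣ) : B)))) * D.P ((z⁻¹ : Bˣ) * x) := by group
    _ = D.P (x + ((y⁻¹ : Bˣ) : B)) * (D.t (D.av (-(z * y⁻¹))) * D.W) *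
          (D.P (x + ((y⁻¹ : Bˣ) : B)) * D.t (D.av z)) * D.P ((z⁻¹ : Bˣ) * x) := by rw [h1]
    _ = _ := by group

/-- the commutation rule at a sum of two units -/
lemma F_split (x y : B) (z v v' w : Bˣ) (hz : (z : B) = 1 + x * y) (hv : y = v + v')
    (hw : (w : B) = 1 + x * v) :
    D.P x * D.Q y = D.Q ((z⁻¹ : Bˣ) * y) * D.t (D.av z) * D.P ((z⁻¹ : Bˣ) * x) := by
  have hwi := Units.mul_inv w
  have hzi := Units.mul_inv z
  have h1 := D.F_unit hall x v w hw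
  have h2 := D.F_unit hall (((w⁻¹ : Bˣ) : B) * x) v' (z * w⁻¹) (by
    rw [Units.val_mul]
    linear_combination ((w⁻¹ : Bˣ) : B) * hz + ((w⁻¹ : Bˣ) : B) * x * hv + hwi - ((w⁻¹ : Bˣ) : B) * hw)
  have h3 : D.t (D.av w) * D.Q ((((z * w⁻¹)⁻¹ : Bˣ) : B) * v') =
      D.Q (((w⁻¹ : Bˣ) : B) ^ 2 * ((((z * w⁻¹)⁻¹ : Bˣ) : B) * v')) * D.t (D.av w) := by
    rw [D.tQ, D.ch_av, ← inv_pow, Units.val_pow_eq_pow_val]
  have e4 : (z * w⁻¹)⁻¹ = w * z⁻¹ := by rw [mul_inv_rev, inv_inv]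
  rw [hv, D.Q_add, ← mul_assoc, h1, mul_assoc, h2]
  rw [e4] at h3 ⊢
  have e5 : D.Q ((w⁻¹ : Bˣ) * v) * D.t (D.av w) * D.P ((w⁻¹ : Bˣ) * x) = D.P x * D.Q v := h1.symm
  have e6 : ((w⁻¹ : Bˣ) : B) * v + ((w⁻¹ : Bˣ) : B) ^ 2 * (((w * z⁻¹ : Bˣ) : B) * v') =
      ((z⁻¹ : Bˣ) : B) * (v + v') := by
    rw [Units.val_mul]
    have key : ((w⁻¹ : Bˣ) : B) * v + ((w⁻¹ : Bˣ) : B) * ((z⁻¹ : Bˣ) : B) * v' -
        ((z⁻¹ : Bˣ) : B) * (v + v') = 0 := by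
      have h7 : (z : B) - w = x * v' := by rw [hz, hw, hv]; ring
      linear_combination ((z⁻¹ : Bˣ) : B) * ((w⁻¹ : Bˣ) : B) * v * h7 - ((w⁻¹ : Bˣ) : B) * v * hzi
        + ((z⁻¹ : Bˣ) : B) * v * hwi + ((z⁻¹ : Bˣ) : B) * v' * hwi
        - ((z⁻¹ : Bˣ) : B) * ((w⁻¹ : Bˣ) : B) * v' * hw
    linear_combination key + (((w⁻¹ : Bˣ) : B) * ((z⁻¹ : Bˣ) : B) * v') * hwi
  have e7 : D.t (D.av w) * D.t (D.av (z * w⁻¹)) = D.t (D.av z) := by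
    rw [← map_mul, ← map_mul, mul_comm z, mul_inv_cancel_left]
  have e8 : ((w * z⁻¹ : Bˣ) : B) * (((w⁻¹ : Bˣ) : B) * x) = ((z⁻¹ : Bˣ) : B) * x := by
    rw [Units.val_mul]
    linear_combination ((z⁻¹ : Bˣ) : B) * x * hwi
  rw [e8]
  calc D.Q ((w⁻¹ : Bˣ) * v) * D.t (D.av w) *
        (D.Q (((w * z⁻¹ : Bˣ) : B) * v') * D.t (D.av (z * w⁻¹)) * D.P (((z⁻¹ : Bˣ) : B) * x))
      = D.Q ((w⁻¹ : Bˣ) * v) * (D.t (D.av w) * D.Q (((w * z⁻¹ : Bˣ) : B) * v')) * D.t (D.av (z * w⁻¹)) *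
          D.P (((z⁻¹ : Bˣ) : B) * x) := by group
    _ = D.Q ((w⁻¹ : Bˣ) * v) * D.Q (((w⁻¹ : Bˣ) : B) ^ 2 * (((w * z⁻¹ : Bˣ) : B) * v')) *
          (D.t (D.av w) * D.t (D.av (z * w⁻¹))) * D.P (((z⁻¹ : Bˣ) : B) * x) := by rw [h3]; group
    _ = _ := by rw [e7, ← D.Q_add, e6]

end rel

end Gen

open CategoryTheory MonoidalCategory CartesianMonoidalCategory MonObj GrpObj AlgebraicGeometry Limits
open Groth.Agent.Sga3B.DSPts Groth.Agent.Sga3B.GaPts Groth.Agent.Sga3.H811.Pts K212.R1Alg K212.R1Mk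
open K212.Gen K212.R1Conj K212.Weight K212.Fn K212.Kpt K212.R1Geo

variable {S : Scheme.{u}}

/-- square roots of units exist flat-locally -/
theorem exists_sqrt {X : Over S} (c : Γ(X.left, ⊤)ˣ) (x : X.left) :
    ∃ (X' : Over S) (k : X' ⟶ X) (z : Γ(X'.left, ⊤)ˣ), Flat k.left ∧ x ∈ Set.range k.left ∧
      uMap k c = z ^ 2 := by
  obtain ⟨R₁, w, hw, ⟨y, hy⟩, -⟩ := Groth.Agent.Sga3B.BorLoc613.exists_spec_nhd (S := X.left) ⊤ (s := x) trivial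
  have hnt : Nontrivial R₁ := by
    have : Nonempty (PrimeSpectrum R₁) := ⟨y⟩
    exact PrimeSpectrum.nonempty_iff_nontrivial.mp this
  obtain ⟨D, f, ω, hf, hs, hω⟩ := Groth.Agent.Sga3.H811.Lift.exists_root_fn R₁
    (w.appTop (c : Γ(X.left, ⊤))) 2 (by norm_num)
  have e1 : ω ^ 2 = (f ≫ w).appTop (c : Γ(X.left, ⊤)) := by
    rw [hω, Scheme.Hom.comp_appTop]; rfl
  have hu : IsUnit ω := by
    have h1 : IsUnit (ω ^ 2) := by
      rw [e1]; exact c.isUnit.map _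
    exact (isUnit_pow_iff (by norm_num)).mp h1
  obtain ⟨q, hq⟩ := hs.surj y
  refine ⟨Over.mk (f ≫ w ≫ X.hom), Over.homMk (f ≫ w) (by simp), hu.unit, ?_, ⟨q, ?_⟩, ?_⟩
  · change Flat (f ≫ w)
    infer_instance
  · change (f ≫ w) q = x
    rw [Scheme.Hom.comp_apply, hq, hy]
  · apply Units.ext
    rw [Units.val_pow_eq_pow_val, IsUnit.unit_spec, e1]
    rfl

/-- flat-locally `y = v + v'` with units `v, v'` and `1 + x v` a unit, if `1 + x y` is a unit -/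
theorem exists_split_cover {X : Over S} (x y : Γ(X.left, ⊤)) (z : Γ(X.left, ⊤)ˣ)
    (hz : (z : Γ(X.left, ⊤)) = 1 + x * y) (pt : X.left) :
    ∃ (X' : Over S) (k : X' ⟶ X) (v v' w : Γ(X'.left, ⊤)ˣ), Flat k.left ∧ pt ∈ Set.range k.left ∧
      k.left.appTop y = v + v' ∧ (w : Γ(X'.left, ⊤)) = 1 + k.left.appTop x * v := by
  obtain ⟨R₁, g, hg, ⟨q, hq⟩, -⟩ := Groth.Agent.Sga3B.BorLoc613.exists_spec_nhd (S := X.left) ⊤ (s := pt) trivial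
  let φ : Γ(X.left, ⊤) →+* R₁ := (Scheme.ΓSpecIso R₁).hom.hom.comp g.appTop.hom
  obtain ⟨D, _, _, f, y₁, hf, h1, h2, h3⟩ := Groth.Agent.Sga3.H811.Sys.RSys.exists_split (R := R₁) (φ x) (φ y)
    (Units.map (φ : Γ(X.left, ⊤) →* R₁) z) (by
      change _ = φ z
      rw [hz, map_add, map_one, map_mul])
  obtain ⟨h4, h5⟩ := Groth.Agent.Sga3.H811.Lift.flat_surjective_of (CommRingCat.ofHom (f : R₁ →+* D)) hf
  obtain ⟨p, hp⟩ := h5.surj q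
  let F : Spec (CommRingCat.of D) ⟶ Spec R₁ := Spec.map (CommRingCat.ofHom (f : R₁ →+* D))
  let e : D →+* Γ(Spec (CommRingCat.of D), ⊤) := (Scheme.ΓSpecIso (CommRingCat.of D)).inv.hom
  have key : ∀ a : Γ(X.left, ⊤), (F ≫ g).appTop a = e (f (φ a)) := by
    intro a
    have h6 : (F ≫ g).appTop a = F.appTop (g.appTop a) := by
      rw [Scheme.Hom.comp_appTop]; rfl
    have h7 := congrArg (fun k => CommRingCat.Hom.hom k ((Scheme.ΓSpecIso R₁).hom (g.appTop a)))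
      (Scheme.ΓSpecIso_inv_naturality (CommRingCat.ofHom (f : R₁ →+* D)))
    rw [h6]
    refine Eq.trans ?_ h7.symm
    change _ = F.appTop (((Scheme.ΓSpecIso R₁).hom ≫ (Scheme.ΓSpecIso R₁).inv) (g.appTop a))
    rw [Iso.hom_inv_id]
    rfl
  refine ⟨Over.mk (F ≫ g ≫ X.hom), Over.homMk (F ≫ g) (by simp), (h1.map e).unit, (h2.map e).unit,
    (h3.map e).unit, ?_, ⟨p, ?_⟩, ?_, ?_⟩
  · change Flat (F ≫ g)
    infer_instance
  · change (F ≫ g) p = pt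
    rw [Scheme.Hom.comp_apply]
    exact (congrArg g hp).trans hq
  · change (F ≫ g).appTop y = _
    rw [key, IsUnit.unit_spec, IsUnit.unit_spec, ← map_add, add_sub_cancel]
  · change _ = 1 + (F ≫ g).appTop x * _
    rw [key, IsUnit.unit_spec, IsUnit.unit_spec, ← map_mul, map_add, map_one]

section mk

variable {T L : Over S} [GrpObj T] [GrpObj L] {α : T ⟶ Red.Gm S} {av : Red.Gm S ⟶ T}
  {j : T ⟶ L} {r : Red.Ga S ⟶ L} {h : 𝟙_ (Over S) ⟶ L} {m : 𝟙_ (Over S) ⟶ Red.Gm S}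
  {e₁ : 𝟙_ (Over S) ⟶ Red.Ga S}

/-- The relations of a rank one system of generators. -/
structure GenHyp (α : T ⟶ Red.Gm S) (av : Red.Gm S ⟶ T) (j : T ⟶ L) (r : Red.Ga S ⟶ L)
    (h : 𝟙_ (Over S) ⟶ L) (m : 𝟙_ (Over S) ⟶ Red.Gm S) (e₁ : 𝟙_ (Over S) ⟶ Red.Ga S) : Prop where
  ma : IsMonHom α
  mav : IsMonHom av
  mj : IsMonHom j
  mr : IsMonHom r
  tcomm : ∀ (X : Over S) (t t' : X ⟶ T), t * t' = t' * t
  h2 : av ≫ α = (𝟙 (Red.Gm S)) ^ 2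
  hm : Red.gmFn m = -1
  he₁ : Red.gaFn e₁ = 1
  r1 : ∀ (X : Over S) (t : X ⟶ T) (x x' : X ⟶ Red.Ga S), Red.gaFn x' = Red.gmFn (t ≫ α) * Red.gaFn x →
          (t ≫ j) * (x ≫ r) * (t ≫ j)⁻¹ = x' ≫ r
  r2 : ∀ (X : Over S) (t : X ⟶ T), (toUnit X ≫ h) * (t ≫ j) * (toUnit X ≫ h)⁻¹ = (t * (t ≫ α ≫ av)⁻¹) ≫ j
  r3 : h ^ 2 = m ≫ av ≫ j
  r4 : (h * (e₁ ≫ r)) ^ 3 = 1

/-- the data on points -/
noncomputable def GenHyp.gen (H : GenHyp α av j r h m e₁) (X : Over S) :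
    Gen Γ(X.left, ⊤) (X ⟶ L) (X ⟶ T) where
  P x := gaPt X x ≫ r
  t :=
    { toFun := fun s => s ≫ j
      map_one' := by have := H.mj; exact MonObj.one_comp j
      map_mul' := fun s s' => by have := H.mj; exact MonObj.mul_comp s s' j }
  ch :=
    { toFun := fun s => uPt (s ≫ α)
      map_one' := by have := H.ma; exact uPt_hom_one
      map_mul' := fun s s' => by have := H.ma; exact uPt_hom_mul s s' }
  av :=
    { toFun := fun z => gmPt X z ≫ av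
      map_one' := by have := H.mav; rw [gmPt_one, MonObj.one_comp]
      map_mul' := fun z z' => by have := H.mav; rw [gmPt_mul, MonObj.mul_comp] }
  W := toUnit X ≫ h
  tcomm := H.tcomm X
  P_add x y := by have := H.mr; rw [gaPt_add, MonObj.mul_comp]
  tP s x := by
    have h1 := H.r1 X s (gaPt X x) (gaPt X (Red.gmFn (s ≫ α) * x)) (by rw [gaFn_gaPt, gaFn_gaPt])
    rw [mul_inv_eq_iff_eq_mul] at h1
    exact h1
  ch_av z := by
    have h2 := H.h2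
    apply Units.ext
    change Red.gmFn ((gmPt X z ≫ av) ≫ α) = _
    rw [Category.assoc, h2, MonObj.comp_pow, Category.comp_id, gmFn_pow, gmFn_gmPt,
      Units.val_pow_eq_pow_val]
  r2 s := by
    have h1 := H.r2 X s
    have e : s ≫ α ≫ av = gmPt X (uPt (s ≫ α)) ≫ av := by rw [gmPt_uPt, Category.assoc]
    rw [e] at h1
    exact h1
  r3 := by
    have h1 := congrArg (fun k => toUnit X ≫ k) H.r3
    simp only [MonObj.comp_pow] at h1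
    rw [pow_two] at h1
    have e : toUnit X ≫ m = gmPt X (-1) := by
      apply gmFn_injective
      rw [gmFn_comp, gmFn_gmPt, H.hm, map_neg, map_one, Units.val_neg, Units.val_one]
    rw [h1, ← Category.assoc, e, ← Category.assoc]
    rfl
  r4 := by
    have h1 := congrArg (fun k => toUnit X ≫ k) H.r4
    simp only [MonObj.comp_pow, MonObj.comp_mul, MonObj.comp_one] at h1
    have e : toUnit X ≫ e₁ = gaPt X 1 := by
      apply gaFn_injective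
      rw [gaFn_comp, gaFn_gaPt, H.he₁, map_one]
    rw [← Category.assoc, e] at h1
    exact h1

/-- the opposite root homomorphism -/
noncomputable def rm (r : Red.Ga S ⟶ L) (h : 𝟙_ (Over S) ⟶ L) : Red.Ga S ⟶ L :=
  (toUnit _ ≫ h) * r⁻¹ * (toUnit _ ≫ h)⁻¹

variable (H : GenHyp α av j r h m e₁)

lemma gaPt_rm {X : Over S} (x : Γ(X.left, ⊤)) : gaPt X x ≫ rm r h = (H.gen X).Q x := by
  have h1 : (H.gen X).P (-x) = ((H.gen X).P x)⁻¹ := (H.gen X).P_neg x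
  rw [Gen.Q, h1, rm, MonObj.comp_mul, MonObj.comp_mul, GrpObj.comp_inv, GrpObj.comp_inv, ← Category.assoc,
    toUnit_unique (gaPt X x ≫ toUnit _) (toUnit _)]
  rfl

lemma key_all {X : Over S} (x : Γ(X.left, ⊤)ˣ) : (H.gen X).t ((H.gen X).av x) * (H.gen X).W =
    (H.gen X).P x * (H.gen X).Q (-((x⁻¹ : Γ(X.left, ⊤)ˣ) : Γ(X.left, ⊤))) * (H.gen X).P x := by
  refine eq_of_flat _ _ fun pt => ?_
  obtain ⟨X', k, z, hk, hx, hz⟩ := exists_sqrt x pt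
  refine ⟨X', k, hk, hx, ?_⟩
  have h1 := (H.gen X').sq_rel z (uMap k x) hz
  have e1 : k ≫ (H.gen X).t ((H.gen X).av x) = (H.gen X').t ((H.gen X').av (uMap k x)) := by
    change k ≫ (gmPt X x ≫ av) ≫ j = (gmPt X' _ ≫ av) ≫ j
    rw [← Category.assoc, ← Category.assoc, comp_gmPt]
  have e2 : k ≫ (H.gen X).W = (H.gen X').W := by
    change k ≫ toUnit X ≫ h = toUnit X' ≫ h
    rw [← Category.assoc, toUnit_unique (k ≫ toUnit _) (toUnit _)]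
  have e3 : ∀ a, k ≫ (H.gen X).P a = (H.gen X').P (k.left.appTop a) := by
    intro a
    change k ≫ gaPt X a ≫ r = gaPt X' _ ≫ r
    rw [← Category.assoc, comp_gaPt]
  have e4 : ∀ a, k ≫ (H.gen X).Q a = (H.gen X').Q (k.left.appTop a) := by
    intro a
    rw [← gaPt_rm, ← gaPt_rm, ← Category.assoc, comp_gaPt]
  rw [MonObj.comp_mul, MonObj.comp_mul, MonObj.comp_mul, e1, e2, e3, e4, h1, map_neg]
  rfl

/-- the commutation rule -/
theorem F_all {X : Over S} (x y : Γ(X.left, ⊤)) (z : Γ(X.left, ⊤)ˣ) (hz : (z : Γ(X.left, ⊤)) = 1 + x * y) :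
    (H.gen X).P x * (H.gen X).Q y = (H.gen X).Q (((z⁻¹ : Γ(X.left, ⊤)ˣ) : Γ(X.left, ⊤)) * y) *
      (H.gen X).t ((H.gen X).av z) * (H.gen X).P (((z⁻¹ : Γ(X.left, ⊤)ˣ) : Γ(X.left, ⊤)) * x) := by
  refine eq_of_flat _ _ fun pt => ?_
  obtain ⟨X', k, v, v', w, hk, hx, h1, h2⟩ := exists_split_cover x y z hz pt
  refine ⟨X', k, hk, hx, ?_⟩
  have e1 : k ≫ (H.gen X).t ((H.gen X).av z) = (H.gen X').t ((H.gen X').av (uMap k z)) := by
    change k ≫ (gmPt X z ≫ av) ≫ j = (gmPt X' _ ≫ av) ≫ j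
    rw [← Category.assoc, ← Category.assoc, comp_gmPt]
  have e3 : ∀ a, k ≫ (H.gen X).P a = (H.gen X').P (k.left.appTop a) := by
    intro a
    change k ≫ gaPt X a ≫ r = gaPt X' _ ≫ r
    rw [← Category.assoc, comp_gaPt]
  have e4 : ∀ a, k ≫ (H.gen X).Q a = (H.gen X').Q (k.left.appTop a) := by
    intro a
    rw [← gaPt_rm, ← gaPt_rm, ← Category.assoc, comp_gaPt]
  have h3 := (H.gen X').F_split (fun u => key_all H u) (k.left.appTop x) (k.left.appTop y) (uMap k z) v v' w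
    (by rw [uMap_val, hz, map_add, map_one, map_mul]) h1 h2
  rw [MonObj.comp_mul, MonObj.comp_mul, MonObj.comp_mul, e1, e3, e3, e4, e4, h3, map_mul, map_mul]
  rfl

include H in
lemma isMonHom_rm : IsMonHom (rm r h) := by
  refine Groth.Agent.Sga3B.Pts.isMonHom_of_points _ fun X a b => ?_
  have key : ∀ c : X ⟶ Red.Ga S, c ≫ rm r h = (H.gen X).Q (Red.gaFn c) := by
    intro c
    rw [← gaPt_rm, gaPt_gaFn]
  rw [key, key, key, ← Gen.Q_add]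
  congr 1
  have h1 : gaPt X (Red.gaFn a + Red.gaFn b) = a * b := by
    rw [gaPt_add, gaPt_gaFn, gaPt_gaFn]
  rw [← h1, gaFn_gaPt]

include H in
/-- **The relations give a rank one system.** -/
theorem r1Hyp : R1Hyp j α r (rm r h) av where
  mi := H.mj
  ma := H.ma
  mpp := H.mr
  mpm := isMonHom_rm H
  mav := H.mav
  tcomm := H.tcomm
  hpp X t x := by
    refine ⟨gaPt X (Red.gmFn (t ≫ α) * Red.gaFn x), ?_, gaFn_gaPt _ _⟩
    rw [← H.r1 X t x _ (gaFn_gaPt _ _)]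
  hpm X t y := by
    refine ⟨gaPt X ((((uPt (t ≫ α))⁻¹ : Γ(X.left, ⊤)ˣ) : Γ(X.left, ⊤)) * Red.gaFn y), ?_, ?_⟩
    · rw [gaPt_rm H]
      have h1 := (H.gen X).tQ t (Red.gaFn y)
      have h2 : y ≫ rm r h = (H.gen X).Q (Red.gaFn y) := by rw [← gaPt_rm, gaPt_gaFn]
      rw [h2, eq_mul_inv_iff_mul_eq]
      exact h1.symm
    · rw [gaFn_gaPt, ← uPt_val, mul_right_comm, Units.inv_mul, _root_.one_mul]
  h2 := H.h2
  hF X x y hu := by
    obtain ⟨z, hz⟩ := hu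
    refine ⟨gaPt X (((z⁻¹ : Γ(X.left, ⊤)ˣ) : Γ(X.left, ⊤)) * Red.gaFn x),
      gaPt X (((z⁻¹ : Γ(X.left, ⊤)ˣ) : Γ(X.left, ⊤)) * Red.gaFn y), gmPt X z, ?_, ?_, ?_, ?_⟩
    · rw [gmFn_gmPt, hz]
    · rw [gaFn_gaPt, gmFn_gmPt, mul_right_comm, Units.inv_mul, _root_.one_mul]
    · rw [gaFn_gaPt, gmFn_gmPt, mul_right_comm, Units.inv_mul, _root_.one_mul]
    · have h1 := F_all H (Red.gaFn x) (Red.gaFn y) z hz
      have h2 : y ≫ rm r h = (H.gen X).Q (Red.gaFn y) := by rw [← gaPt_rm, gaPt_gaFn]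
      have h3 : x ≫ r = (H.gen X).P (Red.gaFn x) := by
        change _ = gaPt X _ ≫ r
        rw [gaPt_gaFn]
      rw [gaPt_rm H, h2, h3, h1, ← Category.assoc (gmPt X z)]
      rfl

/-- the Weyl element of the resulting system -/
lemma w_eq_h {X : Over S} : ((r1Hyp H).sys X).w 1 = toUnit X ≫ h := by
  have h1 := (H.gen X).W_eq
  rw [R1.w_def, inv_one, Units.val_one]
  have h2 : ((r1Hyp H).sys X).q (-1) = (H.gen X).Q (-1) := by
    rw [← gaPt_rm]; rfl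
  rw [h2]
  exact h1.symm

end mk

end K215.R1Gen
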