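import Groth.Agent.Sga3.H811.Lift
import Groth.Agent.Red.K215.R1

/-!
# Rank one calculus on points
-/

set_option autoImplicit false
set_option linter.unusedSectionVars false
universe u
open CategoryTheory MonoidalCategory CartesianMonoidalCategory MonObj GrpObj AlgebraicGeometry Limits

namespace K215.RankOne

open Groth.Agent.Sga3B.DSPts Groth.Agent.Sga3B.GaPts Groth.Agent.Sga3.H811.Pts

variable {S : Scheme.{u}} {G T : Over S} [GrpObj G] [GrpObj T]

section ga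

variable (p : Red.Ga S ⟶ G) [IsMonHom p]

/-- the point `p(x)` -/
noncomputable def P (X : Over S) (x : Γ(X.left, ⊤)) : X ⟶ G := gaPt X x ≫ p

lemma P_gaFn {X : Over S} (x : X ⟶ Red.Ga S) : P p X (Red.gaFn x) = x ≫ p := by
  rw [P, gaPt_gaFn]

lemma P_add (X : Over S) (x y : Γ(X.left, ⊤)) : P p X (x + y) = P p X x * P p X y := by
  rw [P, gaPt_add, MonObj.mul_comp]; rfl

lemma P_zero (X : Over S) : P p X 0 = 1 := by
  have h := P_add p X 0 0
  rw [add_zero] at h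
  exact (mul_eq_left.mp h.symm)

lemma P_neg (X : Over S) (x : Γ(X.left, ⊤)) : P p X (-x) = (P p X x)⁻¹ := by
  rw [eq_inv_iff_mul_eq_one, ← P_add, neg_add_cancel, P_zero]

lemma comp_P {X Y : Over S} (f : Y ⟶ X) (x : Γ(X.left, ⊤)) :
    f ≫ P p X x = P p Y (f.left.appTop x) := by
  rw [P, ← Category.assoc, comp_gaPt]; rfl

lemma P_injective [Mono p] (X : Over S) : Function.Injective (P p X) := by
  intro x y h
  unfold P at h
  rw [cancel_mono] at h
  have := congrArg Red.gaFn h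
  simpa using this

end ga

section gm

lemma gmPt_gmFn {X : Over S} (z : X ⟶ Red.Gm S) (v : Γ(X.left, ⊤)ˣ) (h : Red.gmFn z = v) :
    gmPt X v = z := by
  apply gmFn_injective
  rw [gmFn_gmPt, h]

lemma exists_gmPt {X : Over S} (z : X ⟶ Red.Gm S) : ∃ v : Γ(X.left, ⊤)ˣ, z = gmPt X v ∧
    Red.gmFn z = v := by
  refine ⟨(isUnit_gmFn z).unit, (gmPt_gmFn z _ rfl).symm, rfl⟩

lemma gmPt_mul (X : Over S) (v w : Γ(X.left, ⊤)ˣ) : gmPt X (v * w) = gmPt X v * gmPt X w := by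
  apply gmFn_injective
  rw [gmFn_mul, gmFn_gmPt, gmFn_gmPt, gmFn_gmPt, Units.val_mul]

lemma gmPt_one (X : Over S) : gmPt X (1 : Γ(X.left, ⊤)ˣ) = 1 := by
  apply gmFn_injective
  rw [gmFn_gmPt, gmFn_one, Units.val_one]

lemma gmPt_inv (X : Over S) (v : Γ(X.left, ⊤)ˣ) : gmPt X v⁻¹ = (gmPt X v)⁻¹ := by
  rw [eq_inv_iff_mul_eq_one, ← gmPt_mul, inv_mul_cancel, gmPt_one]

lemma comp_gmPt {X Y : Over S} (f : Y ⟶ X) (v : Γ(X.left, ⊤)ˣ) :
    f ≫ gmPt X v = gmPt Y (Units.map (f.left.appTop.hom : _ →* _) v) := by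
  apply gmFn_injective
  rw [gmFn_comp, gmFn_gmPt, gmFn_gmPt]
  rfl

variable (av : Red.Gm S ⟶ T) [IsMonHom av] (i : T ⟶ G) [IsMonHom i]

/-- the point `i(α^*(v))` -/
noncomputable def A (X : Over S) (v : Γ(X.left, ⊤)ˣ) : X ⟶ G := gmPt X v ≫ av ≫ i

lemma A_mul (X : Over S) (v w : Γ(X.left, ⊤)ˣ) : A av i X (v * w) = A av i X v * A av i X w := by
  rw [A, gmPt_mul, MonObj.mul_comp]; rfl

lemma comp_A {X Y : Over S} (f : Y ⟶ X) (v : Γ(X.left, ⊤)ˣ) :
    f ≫ A av i X v = A av i Y (Units.map (f.left.appTop.hom : _ →* _) v) := by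
  rw [A, ← Category.assoc, comp_gmPt]; rfl

end gm

section rel

variable (i : T ⟶ G) (α : T ⟶ Red.Gm S) (pp pm : Red.Ga S ⟶ G) (av : Red.Gm S ⟶ T)

/-- the rank one relation as a hypothesis on points -/
def RelH : Prop := ∀ (X : Over S) (x y : X ⟶ Red.Ga S), IsUnit (1 + Red.gaFn x * Red.gaFn y) →
      ∃ (x' y' : X ⟶ Red.Ga S) (z : X ⟶ Red.Gm S), Red.gmFn z = 1 + Red.gaFn x * Red.gaFn y ∧
        Red.gaFn x' * Red.gmFn z = Red.gaFn x ∧ Red.gaFn y' * Red.gmFn z = Red.gaFn y ∧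
        (x ≫ pp) * (y ≫ pm) = (y' ≫ pm) * (z ≫ av ≫ i) * (x' ≫ pp)

variable {i α pp pm av}

/-- the rank one relation -/
lemma RelH.rel (h : RelH i pp pm av) {X : Over S} (x y : Γ(X.left, ⊤)) (v : Γ(X.left, ⊤)ˣ)
    (hv : (v : Γ(X.left, ⊤)) = 1 + x * y) :
    P pp X x * P pm X y = P pm X ((v⁻¹ : Γ(X.left, ⊤)ˣ) * y) * A av i X v *
      P pp X ((v⁻¹ : Γ(X.left, ⊤)ˣ) * x) := by
  obtain ⟨x', y', z, hz, hx', hy', h1⟩ := h X (gaPt X x) (gaPt X y) (by
    rw [gaFn_gaPt, gaFn_gaPt, ← hv]; exact v.isUnit)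
  rw [gaFn_gaPt, gaFn_gaPt, ← hv] at hz
  rw [gaFn_gaPt, hz] at hx' hy'
  have e1 : gaPt X ((v⁻¹ : Γ(X.left, ⊤)ˣ) * x) = x' := by
    apply gaFn_injective
    rw [gaFn_gaPt, ← hx', mul_comm (Red.gaFn x'), Units.inv_mul_cancel_left]
  have e2 : gaPt X ((v⁻¹ : Γ(X.left, ⊤)ˣ) * y) = y' := by
    apply gaFn_injective
    rw [gaFn_gaPt, ← hy', mul_comm (Red.gaFn y'), Units.inv_mul_cancel_left]
  unfold P A
  rw [h1, e1, e2, gmPt_gmFn z v hz]

lemma gmFn_A (h2 : av ≫ α = (𝟙 (Red.Gm S)) ^ 2) (X : Over S) (v : Γ(X.left, ⊤)ˣ) :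
    Red.gmFn ((gmPt X v ≫ av) ≫ α) = (v : Γ(X.left, ⊤)) * v := by
  rw [Category.assoc, h2, MonObj.comp_pow, Category.comp_id, gmFn_pow, gmFn_gmPt, pow_two]

/-- the rank one calculus on the points with values in `X`. -/
noncomputable def r1 [IsMonHom i] [IsMonHom pp] [IsMonHom pm] [IsMonHom av]
    (hpp : NormP i α pp) (hpm : NormM i α pm) (h2 : av ≫ α = (𝟙 (Red.Gm S)) ^ 2)
    (h : RelH i pp pm av) (X : Over S) : R1 Γ(X.left, ⊤) (X ⟶ G) where
  P := P pp X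
  M := P pm X
  A := A av i X
  P_add := P_add pp X
  M_add := P_add pm X
  A_mul := A_mul av i X
  AP v x := by
    have h3 := hpp.comm (gmPt X v ≫ av) x (v * v * x) (by rw [gmFn_A h2])
    rw [Category.assoc] at h3
    exact h3
  AM v x := by
    have h3 := hpm.comm (gmPt X v ≫ av) (v * v * x) x (by rw [gmFn_A h2, mul_comm])
    rw [Category.assoc] at h3
    exact h3
  rel x y v hv := h.rel x y v hv

variable [IsMonHom i] [IsMonHom pp] [IsMonHom pm] [IsMonHom av]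
    (hpp : NormP i α pp) (hpm : NormM i α pm) (h2 : av ≫ α = (𝟙 (Red.Gm S)) ^ 2)
    (h : RelH i pp pm av)

@[simp] lemma r1_P (X : Over S) : (r1 hpp hpm h2 h X).P = P pp X := rfl
@[simp] lemma r1_M (X : Over S) : (r1 hpp hpm h2 h X).M = P pm X := rfl
@[simp] lemma r1_A (X : Over S) : (r1 hpp hpm h2 h X).A = A av i X := rfl

lemma comp_w {X Y : Over S} (f : Y ⟶ X) (v : Γ(X.left, ⊤)ˣ) :
    f ≫ (r1 hpp hpm h2 h X).w v =
      (r1 hpp hpm h2 h Y).w (Units.map (f.left.appTop.hom : _ →* _) v) := by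
  unfold R1.w
  simp only [r1_P, r1_M, MonObj.comp_mul, comp_P]
  rw [map_neg]
  rfl

lemma comp_wm {X Y : Over S} (f : Y ⟶ X) (v : Γ(X.left, ⊤)ˣ) :
    f ≫ (r1 hpp hpm h2 h X).wm v =
      (r1 hpp hpm h2 h Y).wm (Units.map (f.left.appTop.hom : _ →* _) v) := by
  unfold R1.wm
  simp only [r1_P, r1_M, MonObj.comp_mul, comp_P]
  rw [map_neg]
  rfl

end rel

section ext

attribute [local instance] ULift.algebra'

/-- A faithfully flat extension with a unit `u` such that `1 - u` is a unit. -/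
theorem exists_ext (X : Over S) : ∃ (X' : Over S) (f : X' ⟶ X) (u u' : Γ(X'.left, ⊤)ˣ),
    Flat f.left ∧ Surjective f.left ∧ (u' : Γ(X'.left, ⊤)) = 1 - u := by
  let Z := ULift.{u} ℤ
  let F : Polynomial Z := Polynomial.X ^ 2 - Polynomial.X + 1
  have hd : F.natDegree = 2 := by unfold F; compute_degree!
  have hF : F.Monic := by unfold F; monicity!
  obtain ⟨D, _, _, f, z, hf, hz⟩ := Groth.Agent.Sga3.H811.Sys.exists_root (R := Z) F hF (by omega)
  obtain ⟨h1, h2⟩ := Groth.Agent.Sga3.H811.Lift.flat_surjective_of (CommRingCat.ofHom (f : Z →+* D)) hf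
  have hz' : z * (1 - z) = 1 := by
    have : z ^ 2 - z + 1 = 0 := by
      simpa [F, Polynomial.eval₂_add, Polynomial.eval₂_sub] using hz
    linear_combination -this
  let q := pullback.fst (specULiftZIsTerminal.from X.left) (Spec.map (CommRingCat.ofHom (f : Z →+* D)))
  let r := pullback.snd (specULiftZIsTerminal.from X.left) (Spec.map (CommRingCat.ofHom (f : Z →+* D)))
  let X' : Over S := Over.mk (q ≫ X.hom)
  let g : D →+* Γ(X'.left, ⊤) := (r.appTop.hom).comp (Scheme.ΓSpecIso (CommRingCat.of D)).inv.hom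
  have e : g z * g (1 - z) = 1 := by rw [← map_mul, hz', map_one]
  refine ⟨X', Over.homMk q rfl, ⟨g z, g (1 - z), e, by rw [mul_comm]; exact e⟩,
    ⟨g (1 - z), g z, by rw [mul_comm]; exact e, e⟩, ?_, ?_, ?_⟩
  · change Flat q
    infer_instance
  · change Surjective q
    infer_instance
  · change g (1 - z) = 1 - g z
    rw [map_sub, map_one]

end ext

section rel

variable {i : T ⟶ G} {α : T ⟶ Red.Gm S} {pp pm : Red.Ga S ⟶ G} {av : Red.Gm S ⟶ T}
variable [IsMonHom i] [IsMonHom pp] [IsMonHom pm] [IsMonHom av]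
    (hpp : NormP i α pp) (hpm : NormM i α pm) (h2 : av ≫ α = (𝟙 (Red.Gm S)) ^ 2)
    (h : RelH i pp pm av)

/-- `w(x) = w₋(-x⁻¹)` -/
theorem w_eq_wm (X : Over S) (v : Γ(X.left, ⊤)ˣ) :
    (r1 hpp hpm h2 h X).w v = (r1 hpp hpm h2 h X).wm (-v⁻¹) := by
  obtain ⟨X', f, u, u', hf1, hf2, hu⟩ := exists_ext X
  have : Epi f.left := Flat.epi_of_flat_of_surjective f.left
  have : Epi f := Over.epi_of_epi_left f
  rw [← cancel_epi f, comp_w, comp_wm, (r1 hpp hpm h2 h X').w_eq_wm_of _ u u' hu]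
  congr 1
  ext
  simp

/-- `w(x) w₋(y) = α^*(x y)` -/
theorem w_mul_wm (X : Over S) (v v' : Γ(X.left, ⊤)ˣ) :
    (r1 hpp hpm h2 h X).w v * (r1 hpp hpm h2 h X).wm v' = A av i X (v * v') := by
  rw [w_eq_wm, R1.wm_mul_wm]; rfl

end rel

end K215.RankOne
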