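import Mathlib.AlgebraicGeometry.ResidueField
import Mathlib.AlgebraicGeometry.AffineScheme

/-!
# A function which does not vanish at any point is a unit
-/

set_option autoImplicit false
universe u
open CategoryTheory AlgebraicGeometry

namespace K215.UnitPt

theorem isUnit_of_residue {S : Scheme.{u}} (f : Γ(S, ⊤))
    (h : ∀ s : S, (S.fromSpecResidueField s).appTop f ≠ 0) : IsUnit f := by
  apply RingedSpace.isUnit_of_isUnit_germ
  intro s hs
  have h1 : IsUnit ((S.fromSpecResidueField s).appTop f) := by
    let e := (Scheme.ΓSpecIso (S.residueField s)).commRingCatIsoToRingEquiv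
    have h2 : IsUnit (e ((S.fromSpecResidueField s).appTop f)) :=
      IsUnit.mk0 _ (fun h0 => h s (e.injective (by rw [h0, map_zero])))
    exact (MulEquiv.isUnit_map e).mp h2
  have h2 : (S.fromSpecResidueField s) ⁻¹ᵁ (S.basicOpen f) =
      (Spec (S.residueField s)).basicOpen ((S.fromSpecResidueField s).appTop f) :=
    Scheme.preimage_basicOpen _ f
  have h3 : (Spec (S.residueField s)).basicOpen ((S.fromSpecResidueField s).appTop f) = ⊤ :=
    Scheme.basicOpen_of_isUnit _ h1
  have h4 : IsLocalRing.closedPoint (S.residueField s) ∈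
      (S.fromSpecResidueField s) ⁻¹ᵁ (S.basicOpen f) := by
    rw [h2, h3]
    trivial
  have h5 : (S.fromSpecResidueField s) (IsLocalRing.closedPoint (S.residueField s)) ∈
      S.basicOpen f := h4
  rw [Scheme.fromSpecResidueField_apply] at h5
  exact (Scheme.mem_basicOpen _ _ _ hs).mp h5

end K215.UnitPt
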